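import Mathlib.GroupTheory.Sylow
import Mathlib.GroupTheory.Commutator.Basic
import Mathlib.Algebra.Ring.Commute
import Mathlib.Tactic

/-!
# Elementary abelian groups acting on an abelian `p'`-group inside a linear group (`p` odd)

The bound `|A|² · |C_U(A)| ≤ |U|`, which rules out offenders in the reduced case of
Thompson's normal `p`-complement theorem.
-/

set_option autoImplicit false

open Subgroup
open scoped commutatorElement

namespace Cfsg.Agent.PComplement

section Ring

variable {R : Type*} [Ring R]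

/-- The key identity: with `d = δ`, `e = δ'`, `c = (1+e)(1-d)` and `c' = (1+d) c (1-d)`. -/
theorem transvection_commutation {d e : R} {m : ℤ} (hd : d * d = 0) (he : e * e = 0)
    (hde : d * e * d = m • d)
    (hcomm : Commute ((1 + e) * (1 - d)) ((1 + d) * ((1 + e) * (1 - d)) * (1 - d))) :
    (2 * m ^ 2) • d = 0 := by
  have hde' : ∀ x : R, d * (e * (d * x)) = m • (d * x) := fun x => by
    rw [← mul_assoc e, ← mul_assoc, ← mul_assoc d e d, hde, smul_mul_assoc]
  have hde'' : d * (e * d) = m • d := by rw [← mul_assoc, hde]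
  have hd' : ∀ x : R, d * (d * x) = 0 := fun x => by rw [← mul_assoc, hd, zero_mul]
  have he' : ∀ x : R, e * (e * x) = 0 := fun x => by rw [← mul_assoc, he, zero_mul]
  have h := congrArg (fun x => d * x * d) hcomm.eq
  simp only [mul_add, add_mul, mul_sub, sub_mul, mul_one, one_mul, mul_assoc, hd, hd', hde',
    hde'', he, he', smul_mul_assoc, mul_smul_comm, smul_smul, mul_zero, zero_mul, smul_zero,
    add_zero, zero_add, sub_zero, zero_sub, smul_add, smul_sub, smul_neg, neg_mul, mul_neg] at h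
  rw [← sub_eq_zero] at h
  rw [two_mul, add_smul, sq]
  linear_combination (norm := (module)) h

/-- When both triple products vanish, `(1+e)(1-d) - 1` is nilpotent of index at most `3`. -/
theorem transvection_nilpotent {d e : R} (hd : d * d = 0) (he : e * e = 0)
    (hde : d * e * d = 0) (hed : e * d * e = 0) :
    ((1 + e) * (1 - d) - 1) ^ 3 = 0 := by
  have h1 : d * (e * d) = 0 := by rw [← mul_assoc, hde]
  have h2 : e * (d * e) = 0 := by rw [← mul_assoc, hed]
  have h1' : ∀ x : R, d * (e * (d * x)) = 0 := fun x => by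
    rw [← mul_assoc e, ← mul_assoc, ← mul_assoc d e d, hde, zero_mul]
  have h2' : ∀ x : R, e * (d * (e * x)) = 0 := fun x => by
    rw [← mul_assoc d, ← mul_assoc, ← mul_assoc e d e, hed, zero_mul]
  have hd' : ∀ x : R, d * (d * x) = 0 := fun x => by rw [← mul_assoc, hd, zero_mul]
  have he' : ∀ x : R, e * (e * x) = 0 := fun x => by rw [← mul_assoc, he, zero_mul]
  simp only [pow_succ, pow_zero, one_mul, mul_add, add_mul, mul_sub, sub_mul, mul_one, mul_assoc,
    hd, he, he', h1, h2, h2', mul_zero, zero_mul, smul_zero, sub_zero, add_zero, zero_sub, zero_add,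
    neg_zero]
  simp

/-- `(1 + n)^p = 1` when `p = 0` in the ring and `n^3 = 0`, `p` an odd prime. -/
theorem one_add_pow_prime {p : ℕ} (hp : p.Prime) (hp2 : p ≠ 2) (hchar : (p : R) = 0) {n : R}
    (hn : n ^ 3 = 0) : (1 + n) ^ p = 1 := by
  obtain ⟨r, hr⟩ := (Commute.one_left n).exists_add_pow_prime_eq hp
  rw [hr, hchar, one_pow, pow_eq_zero_of_le (show 3 ≤ p by have := hp.two_le; omega) hn]
  simp

end Ring

variable {H : Type*} [Group H] {U : Type*} [AddCommGroup U]

/-- The subgroup of vectors fixed by a set of operators. -/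
def fixedSub (ρ : H →* AddMonoid.End U) (B : Subgroup H) : AddSubgroup U where
  carrier := {u | ∀ b ∈ B, ρ b u = u}
  zero_mem' := fun b _ => map_zero _
  add_mem' := fun {u v} hu hv b hb => by rw [map_add, hu b hb, hv b hb]
  neg_mem' := fun {u} hu b hb => by rw [map_neg, hu b hb]

theorem mem_fixedSub {ρ : H →* AddMonoid.End U} {B : Subgroup H} {u : U} :
    u ∈ fixedSub ρ B ↔ ∀ b ∈ B, ρ b u = u := Iff.rfl

theorem fixedSub_anti (ρ : H →* AddMonoid.End U) {A B : Subgroup H} (h : B ≤ A) :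
    fixedSub ρ A ≤ fixedSub ρ B := fun _ hu b hb => hu b (h hb)

theorem apply_mul (ρ : H →* AddMonoid.End U) (g h : H) (u : U) : ρ (g * h) u = ρ g (ρ h u) := by
  rw [map_mul]; rfl

theorem apply_pow_eq_self (ρ : H →* AddMonoid.End U) {g : H} {u : U} (h : ρ g u = u) (n : ℕ) :
    ρ (g ^ n) u = u := by
  induction n with
  | zero => simp
  | succ n ih => rw [pow_succ, apply_mul, h, ih]

theorem apply_zpow_eq_self (ρ : H →* AddMonoid.End U) {g : H} {u : U} (h : ρ g u = u) (n : ℤ) :
    ρ (g ^ n) u = u := by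
  obtain ⟨m, rfl | rfl⟩ := n.eq_nat_or_neg
  · rw [zpow_natCast]; exact apply_pow_eq_self ρ h m
  · rw [zpow_neg, zpow_natCast]
    conv_lhs => rw [← apply_pow_eq_self ρ h m]
    rw [← apply_mul, inv_mul_cancel, map_one]; rfl

/-- Thompson's `P × Q` lemma for an abelian group: if the `p'`-element `c` commutes with the
`p`-group `B` and fixes `C_U(B)`, then it fixes all of `U`. -/
theorem apply_eq_self_of_fixes_fixedSub [Finite U] {p : ℕ} [hp : Fact p.Prime]
    (hpU : ∀ u : U, p • u = 0) (ρ : H →* AddMonoid.End U) {B : Subgroup H} (hB : IsPGroup p B)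
    {c : H} (hc : ∀ b ∈ B, Commute b c) {n : ℕ} (hn : p.Coprime n) (hcn : c ^ n = 1)
    (hfix : ∀ u ∈ fixedSub ρ B, ρ c u = u) (u : U) : ρ c u = u := by
  classical
  set N : AddMonoid.End U := ∑ i ∈ Finset.range n, ρ (c ^ i) with hN
  have hNapply : ∀ w, N w = ∑ i ∈ Finset.range n, ρ (c ^ i) w := fun w =>
    AddMonoidHom.finset_sum_apply _ _ w
  by_contra hu
  set D : AddSubgroup U := (N : U →+ U).ker with hD
  have hDB : ∀ b ∈ B, ∀ w ∈ D, ρ b w ∈ D := by
    intro b hb w hw
    show N (ρ b w) = 0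
    have : ∀ i : ℕ, ρ (c ^ i) (ρ b w) = ρ b (ρ (c ^ i) w) := fun i => by
      rw [← apply_mul, ← apply_mul, ((hc b hb).pow_right i).eq]
    rw [hNapply, Finset.sum_congr rfl fun i _ => this i, ← map_sum, ← hNapply]
    rw [show N w = 0 from hw, map_zero]
  have hne : ρ c u - u ∈ D := by
    show N (ρ c u - u) = 0
    rw [hNapply]
    simp only [map_sub, ← apply_mul, ← pow_succ]
    rw [Finset.sum_range_sub (fun i => ρ (c ^ i) u), hcn, pow_zero, sub_self]
  let act : MulAction B D :=
    { smul := fun b w => ⟨ρ b w, hDB b b.2 w w.2⟩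
      one_smul := fun w => Subtype.ext (by show ρ ((1 : B) : H) w = w; simp)
      mul_smul := fun b b' w => Subtype.ext (apply_mul ρ b b' w) }
  have hDne : ρ c u - u ≠ 0 := sub_ne_zero.mpr hu
  have hdvd : p ∣ Nat.card D := by
    have h1 : addOrderOf (⟨_, hne⟩ : D) = p :=
      addOrderOf_eq_prime (Subtype.ext (hpU _)) fun h => hDne (congrArg Subtype.val h)
    exact h1 ▸ addOrderOf_dvd_natCard _
  have hzero : (0 : D) ∈ MulAction.fixedPoints B D := fun b => Subtype.ext (map_zero (ρ b))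
  obtain ⟨w, hw, hw0⟩ := hB.exists_fixed_point_of_prime_dvd_card_of_fixed_point D hdvd hzero
  have hcw : ρ c (w : U) = w := hfix _ fun b hb => congrArg Subtype.val (hw ⟨b, hb⟩)
  have hNw : N (w : U) = 0 := w.2
  rw [hNapply, Finset.sum_congr rfl fun i _ => apply_pow_eq_self ρ hcw i, Finset.sum_const,
    Finset.card_range] at hNw
  apply hw0
  refine (Subtype.ext ?_).symm
  have h2 : addOrderOf (w : U) ∣ Nat.gcd p n :=
    Nat.dvd_gcd (addOrderOf_dvd_of_nsmul_eq_zero (hpU _)) (addOrderOf_dvd_of_nsmul_eq_zero hNw)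
  rw [hn, Nat.dvd_one, AddMonoid.addOrderOf_eq_one_iff] at h2
  exact h2

/-- An element of order `p` inducing a map with image of order at most `p`. -/
theorem exists_smul_of_card_range_le {p : ℕ} [hp : Fact p.Prime] {V : Type*} [AddCommGroup V]
    [Finite V] {L : AddSubgroup V} (hL : Nat.card L ≤ p) (hpV : ∀ v : V, p • v = 0)
    (f : V →+ V) (hf : ∀ v ∈ L, f v ∈ L) : ∃ m : ℤ, ∀ v ∈ L, f v = m • v := by
  by_cases hb : ∀ v ∈ L, v = 0
  · exact ⟨0, fun v hv => by rw [hb v hv]; simp⟩
  push Not at hb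
  obtain ⟨l, hl, hl0⟩ := hb
  have hgen : AddSubgroup.zmultiples l = L := by
    refine AddSubgroup.eq_of_le_of_card_ge (AddSubgroup.zmultiples_le_of_mem hl) ?_
    rwa [Nat.card_zmultiples, addOrderOf_eq_prime (hpV l) hl0]
  obtain ⟨m, hm⟩ := AddSubgroup.mem_zmultiples_iff.mp (hgen.symm ▸ hf l hl)
  refine ⟨m, fun v hv => ?_⟩
  obtain ⟨i, rfl⟩ := AddSubgroup.mem_zmultiples_iff.mp (hgen.symm ▸ hv)
  rw [map_zsmul, ← hm, smul_comm]

/-- `p` odd: a "transvection" `a` acting with an element `y` whose commutators generate an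
abelian `p'`-group commutes with `y`. -/
theorem commute_of_transvection [Finite U] {p : ℕ} [hp : Fact p.Prime] (hp2 : p ≠ 2)
    (hpU : ∀ u : U, p • u = 0) (ρ : H →* AddMonoid.End U) {a y : H}
    (had : (ρ a - 1) * (ρ a - 1) = 0) (hcard : Nat.card (((ρ a - 1 : AddMonoid.End U) : U →+ U)).range ≤ p)
    {K : Subgroup H} (hK : IsMulCommutative K) (hy : y ∈ K)
    (haK : ∀ k ∈ K, a * k * a⁻¹ ∈ K) {n : ℕ} (hn : p.Coprime n) (hKn : ∀ k ∈ K, k ^ n = 1) :
    ρ (y * a * y⁻¹ * a⁻¹) = 1 := by
  have hchar : ((p : ℕ) : AddMonoid.End U) = 0 := by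
    ext u; exact (AddMonoid.End.natCast_apply p u).trans (hpU u)
  set d := ρ a - 1 with hd
  have hinv : ρ a⁻¹ = 1 - d := by
    calc ρ a⁻¹ = ρ a⁻¹ * 1 := (mul_one _).symm
      _ = ρ a⁻¹ * ((1 + d) * (1 - d)) := by
        congr 1
        simp only [mul_sub, add_mul, mul_one, one_mul, had]
        abel
      _ = 1 - d := by
        rw [← mul_assoc, show (1 : AddMonoid.End U) + d = ρ a by rw [hd]; abel, ← map_mul,
          inv_mul_cancel, map_one, one_mul]
  have hscalar : ∀ f : AddMonoid.End U, ∃ m : ℤ, d * f * d = m • d := by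
    intro f
    obtain ⟨m, hm⟩ := exists_smul_of_card_range_le (L := (d : U →+ U).range) hcard hpU
      ((d : U →+ U).comp (f : U →+ U)) fun v _ => ⟨f v, rfl⟩
    refine ⟨m, ?_⟩
    ext u
    exact hm _ ⟨u, rfl⟩
  have hmain : ∀ z ∈ K, d * (ρ z * d * ρ z⁻¹) * d = 0 := by
    intro z hz
    set e := ρ z * d * ρ z⁻¹ with he
    have he2 : e * e = 0 := by
      calc e * e = ρ z * d * (ρ z⁻¹ * ρ z) * d * ρ z⁻¹ := by simp only [he, mul_assoc]
        _ = 0 := by rw [← map_mul, inv_mul_cancel, map_one, mul_one, mul_assoc (ρ z), had]; simp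
    obtain ⟨m, hm⟩ := hscalar e
    have h1e : 1 + e = ρ (z * a * z⁻¹) := by
      rw [map_mul, map_mul, show ρ a = 1 + d by rw [hd]; abel, mul_add, mul_one, add_mul, ← map_mul,
        mul_inv_cancel, map_one]
    have hcK : z * a * z⁻¹ * a⁻¹ ∈ K := by
      have := mul_mem hz (haK _ (inv_mem hz))
      simpa [mul_assoc] using this
    have hcomm : Commute ((1 + e) * (1 - d)) ((1 + d) * ((1 + e) * (1 - d)) * (1 - d)) := by
      rw [show (1 : AddMonoid.End U) + d = ρ a by rw [hd]; abel, h1e, ← hinv, ← map_mul, ← map_mul,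
        ← map_mul]
      refine Commute.map ?_ ρ
      exact congrArg Subtype.val
        (hK.is_comm.comm (⟨_, hcK⟩ : K) ⟨_, haK _ hcK⟩)
    have h2 := transvection_commutation had he2 hm hcomm
    rw [hm]
    by_cases hpm : (p : ℤ) ∣ m
    · obtain ⟨k, rfl⟩ := hpm
      rw [mul_comm, mul_smul, natCast_zsmul, nsmul_eq_mul, hchar, zero_mul]
      simp
    · have hcop : IsCoprime (p : ℤ) (2 * m ^ 2) :=
        ((Nat.prime_iff_prime_int.mp hp.out).coprime_iff_not_dvd.mpr
          fun h => by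
            rcases (Nat.prime_iff_prime_int.mp hp.out).dvd_or_dvd h with h | h
            · exact hp2 ((Nat.prime_dvd_prime_iff_eq hp.out Nat.prime_two).mp
                (by exact_mod_cast h))
            · exact hpm ((Nat.prime_iff_prime_int.mp hp.out).dvd_of_dvd_pow h))
      obtain ⟨s, t, hst⟩ := hcop
      have hd0 : d = 0 := by
        calc d = (s * (p : ℤ) + t * (2 * m ^ 2)) • d := by rw [hst, one_smul]
          _ = 0 := by
            rw [add_smul, mul_smul t, h2, mul_smul, natCast_zsmul, nsmul_eq_mul, hchar, zero_mul]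
            simp
      rw [hd0]
      simp
  set e := ρ y * d * ρ y⁻¹ with he
  have he2 : e * e = 0 := by
    calc e * e = ρ y * d * (ρ y⁻¹ * ρ y) * d * ρ y⁻¹ := by simp only [he, mul_assoc]
      _ = 0 := by rw [← map_mul, inv_mul_cancel, map_one, mul_one, mul_assoc (ρ y), had]; simp
  have hede : e * d * e = 0 := by
    have h := hmain y⁻¹ (inv_mem hy)
    rw [inv_inv] at h
    calc e * d * e = ρ y * (d * (ρ y⁻¹ * d * ρ y) * d) * ρ y⁻¹ := by simp only [he, mul_assoc]
      _ = 0 := by rw [h]; simp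
  have h1e : 1 + e = ρ (y * a * y⁻¹) := by
    rw [map_mul, map_mul, show ρ a = 1 + d by rw [hd]; abel, mul_add, mul_one, add_mul, ← map_mul,
      mul_inv_cancel, map_one]
  have hpow : ρ (y * a * y⁻¹ * a⁻¹) ^ p = 1 := by
    have := one_add_pow_prime hp.out hp2 hchar
      (transvection_nilpotent had he2 (hmain y hy) hede)
    rw [add_sub_cancel, h1e, ← hinv, ← map_mul] at this
    exact this
  have hcK : y * a * y⁻¹ * a⁻¹ ∈ K := by
    have := mul_mem hy (haK _ (inv_mem hy))
    simpa [mul_assoc] using this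
  set c := ρ (y * a * y⁻¹ * a⁻¹) with hc
  have hcn : c ^ n = 1 := by rw [hc, ← map_pow, hKn _ hcK, map_one]
  have := pow_gcd_eq_one.mpr ⟨hpow, hcn⟩
  rwa [hn, pow_one] at this

/-- For an elementary abelian `p`-group `A` acting non-trivially on the abelian `p'`-group `K`,
some element of `K` has a stabiliser of index exactly `p`. -/
theorem exists_stabilizer_hyperplane [Finite H] {p : ℕ} [hp : Fact p.Prime] {A K : Subgroup H}
    (hA : IsMulCommutative A) (hAp : ∀ a ∈ A, a ^ p = 1) (hK : IsMulCommutative K)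
    (hKp : (Nat.card K).Coprime p) (hAK : ∀ a ∈ A, ∀ k ∈ K, a * k * a⁻¹ ∈ K)
    (hne : ∃ a ∈ A, ∃ k ∈ K, ¬ Commute a k) :
    ∃ y ∈ K, ∃ a₀ ∈ A, ¬ Commute a₀ y ∧
      ∀ x ∈ A, ∃ i : ℤ, Commute (x * a₀ ^ i) y := by
  classical
  let stab : H → Subgroup H := fun y => A ⊓ centralizer {y}
  have hstab : ∀ {x y : H}, x ∈ stab y ↔ x ∈ A ∧ Commute x y := fun {x y} =>
    and_congr_right fun _ => mem_centralizer_singleton_iff
  obtain ⟨M, ⟨y, hy, ⟨a₀, ha₀, hc₀⟩, rfl⟩, hmax⟩ := (Set.toFinite
    {M : Subgroup H | ∃ y ∈ K, (∃ a ∈ A, ¬ Commute a y) ∧ stab y = M}).exists_maximal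
    (by obtain ⟨a, ha, k, hk, hak⟩ := hne; exact ⟨stab k, k, hk, ⟨a, ha, hak⟩, rfl⟩)
  refine ⟨y, hy, a₀, ha₀, hc₀, fun b hb => ?_⟩
  by_contra hb'
  push Not at hb'
  have hcA : ∀ u ∈ A, ∀ v ∈ A, Commute u v := fun u hu v hv =>
    congrArg Subtype.val (hA.is_comm.comm (⟨u, hu⟩ : A) ⟨v, hv⟩)
  let : CommGroup K := { (inferInstance : Group K) with mul_comm := hK.is_comm.comm }
  let φ : A → (K →* K) := fun a =>
    { toFun := fun k => ⟨a * k * (a : H)⁻¹, hAK a a.2 k k.2⟩
      map_one' := Subtype.ext (by simp)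
      map_mul' := fun k l => Subtype.ext (by simp [mul_assoc]) }
  have hφ : ∀ (a : A) (k : K), ((φ a k : K) : H) = a * k * (a : H)⁻¹ := fun a k => rfl
  have hφmul : ∀ (a c : A) (k : K), φ (a * c) k = φ a (φ c k) := fun a c k =>
    Subtype.ext (by simp [hφ, mul_assoc])
  have hφ1 : ∀ k : K, φ 1 k = k := fun k => Subtype.ext (by simp [hφ])
  have hφfix : ∀ (a : A) (k : K), φ a k = k ↔ Commute (a : H) (k : H) := fun a k => by
    rw [Subtype.ext_iff, hφ, mul_inv_eq_iff_eq_mul]; rfl
  set y' : K := ⟨y, hy⟩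
  have hpow : ∀ a : A, a ^ p = 1 := fun a => Subtype.ext (hAp a a.2)
  have hpm : ∀ (a : A) (m : ℕ), a ^ m = a ^ (m % p) := fun a m => by
    conv_lhs => rw [← Nat.mod_add_div m p, pow_add, pow_mul, hpow, one_pow, mul_one]
  let Nm : A → K → K := fun c k => ∏ i ∈ Finset.range p, φ (c ^ i) k
  have hNfix : ∀ (c : A) (k : K), φ c (Nm c k) = Nm c k := fun c k => by
    show φ c (∏ i ∈ Finset.range p, φ (c ^ i) k) = _
    rw [map_prod]
    simp only [← hφmul, ← pow_succ']
    have h1 := Finset.prod_range_succ (fun i => φ (c ^ i) k) p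
    rw [Finset.prod_range_succ', hpow, pow_zero] at h1
    exact mul_right_cancel h1
  have hNcomm : ∀ (c x : A), x.1 ∈ stab y → φ x (Nm c y') = Nm c y' := fun c x hx => by
    show φ x (∏ i ∈ Finset.range p, φ (c ^ i) y') = _
    rw [map_prod]
    refine Finset.prod_congr rfl fun i _ => ?_
    have : φ x y' = y' := (hφfix x y').mpr (hstab.mp hx).2
    conv_rhs => rw [← this]
    rw [← hφmul, ← hφmul, show x * c ^ i = c ^ i * x from Subtype.ext (hcA x x.2 _ (c ^ i : A).2).eq]
  -- norms over elements outside the stabiliser are fixed by all of `A`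
  have hall : ∀ c : A, (c : H) ∉ stab y → ∀ x : A, φ x (Nm c y') = Nm c y' := by
    intro c hc x
    by_contra hx
    have hle : stab y < stab ((Nm c y' : K) : H) := by
      refine lt_of_le_of_ne (fun z hz => ?_) fun he => hc ?_
      · exact hstab.mpr ⟨(hstab.mp hz).1,
          (hφfix ⟨z, (hstab.mp hz).1⟩ _).mp (hNcomm c ⟨z, (hstab.mp hz).1⟩ hz)⟩
      · rw [he]; exact hstab.mpr ⟨c.2, (hφfix c _).mp (hNfix c y')⟩
    exact hle.not_ge (hmax ⟨_, (Nm c y').2, ⟨x, x.2, fun h => hx ((hφfix x _).mpr h)⟩, rfl⟩ hle.le)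
  set a : A := ⟨a₀, ha₀⟩
  set b' : A := ⟨b, hb⟩
  have hbn : ((b' : A) : H) ∉ stab y := fun h => hb' 0 (by simpa using (hstab.mp h).2)
  have hab : ∀ i : ℕ, ((a * b' ^ i : A) : H) ∉ stab y := by
    intro i h
    have h1 : Commute (a₀ * b ^ i) y := by simpa using (hstab.mp h).2
    by_cases hpi : p ∣ i
    · obtain ⟨k, rfl⟩ := hpi
      exact hc₀ (by simpa [pow_mul, hAp b hb] using h1)
    obtain ⟨j, hj⟩ := Nat.exists_mul_mod_eq_one_of_coprime
      ((hp.out.coprime_iff_not_dvd.mpr hpi).symm) hp.out.one_lt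
    refine hb' (j : ℤ) ?_
    have h2 := h1.pow_left j
    rw [(hcA a₀ ha₀ _ (pow_mem hb i)).mul_pow, ← pow_mul,
      show b ^ (i * j) = b by
        have := congrArg Subtype.val (hpm b' (i * j))
        simpa [hj.2] using this,
      ← (hcA b hb _ (pow_mem ha₀ j)).eq] at h2
    rwa [zpow_natCast]
  -- the product formula
  have hperm : ∀ j ∈ Finset.range p, j ≠ 0 →
      (∏ i ∈ Finset.range p, φ ((a * b' ^ i) ^ j) y') = φ (a ^ j) (Nm b' y') := by
    intro j hj hj0
    show _ = φ (a ^ j) (∏ i ∈ Finset.range p, φ (b' ^ i) y')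
    rw [map_prod]
    have hcop : Nat.Coprime j p := (hp.out.coprime_iff_not_dvd.mpr
      (fun hd => hj0 (Nat.eq_zero_of_dvd_of_lt hd (Finset.mem_range.mp hj)))).symm
    obtain ⟨l, hl⟩ := Nat.exists_mul_mod_eq_one_of_coprime hcop hp.out.one_lt
    refine Finset.prod_bij' (fun i _ => i * j % p) (fun i _ => i * l % p)
      (fun i _ => Finset.mem_range.mpr (Nat.mod_lt _ hp.out.pos))
      (fun i _ => Finset.mem_range.mpr (Nat.mod_lt _ hp.out.pos)) ?_ ?_ ?_
    · intro i hi
      rw [Nat.mod_mul_mod, mul_assoc, Nat.mul_mod, hl.2, mul_one, Nat.mod_mod,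
        Nat.mod_eq_of_lt (Finset.mem_range.mp hi)]
    · intro i hi
      rw [Nat.mod_mul_mod, mul_assoc, mul_comm l, Nat.mul_mod, hl.2, mul_one, Nat.mod_mod,
        Nat.mod_eq_of_lt (Finset.mem_range.mp hi)]
    · intro i _
      rw [← hφmul, Commute.mul_pow (Subtype.ext (hcA _ a.2 _ (b' ^ i : A).2).eq), ← pow_mul,
        ← hpm b']
  have hfinal : ∀ x : A, φ x (y' ^ p) = y' ^ p := by
    have hsplit : y' ^ p * ∏ j ∈ (Finset.range p).erase 0, φ (a ^ j) (Nm b' y') =
        ∏ i ∈ Finset.range p, Nm (a * b' ^ i) y' := by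
      show _ = ∏ i ∈ Finset.range p, ∏ j ∈ Finset.range p, φ ((a * b' ^ i) ^ j) y'
      rw [Finset.prod_comm, ← Finset.mul_prod_erase _ _ (Finset.mem_range.mpr hp.out.pos)]
      congr 1
      · simp [hφ1]
      · exact Finset.prod_congr rfl fun j hj =>
          (hperm j (Finset.mem_of_mem_erase hj) (Finset.ne_of_mem_erase hj)).symm
    intro x
    have h1 := congrArg (φ x) hsplit
    rw [map_mul, map_prod, map_prod] at h1
    rw [Finset.prod_congr rfl fun i _ => hall _ (hab i) x] at h1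
    rw [← hsplit] at h1
    have h2 : (∏ j ∈ (Finset.range p).erase 0, φ x (φ (a ^ j) (Nm b' y'))) =
        ∏ j ∈ (Finset.range p).erase 0, φ (a ^ j) (Nm b' y') := by
      refine Finset.prod_congr rfl fun j _ => ?_
      rw [hall _ hbn (a ^ j), hall _ hbn x]
    rw [h2] at h1
    exact mul_right_cancel h1
  apply hc₀
  have h3 := hfinal a
  rw [map_pow] at h3
  exact (hφfix a y').mp ((powCoprime hKp).injective h3)

/-- The offender bound: `|A|² · |C_U(A)| ≤ |U|`. -/
theorem card_sq_mul_fixedSub_le [Finite H] [Finite U] {p : ℕ} [hp : Fact p.Prime] (hp2 : p ≠ 2)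
    (hpU : ∀ u : U, p • u = 0) (ρ : H →* AddMonoid.End U) (hρ : Function.Injective ρ)
    {K : Subgroup H} (hK : IsMulCommutative K) (hKp : (Nat.card K).Coprime p) :
    ∀ (n : ℕ) (A : Subgroup H), Nat.card A = n → IsMulCommutative A → (∀ a ∈ A, a ^ p = 1) →
      (∀ a ∈ A, ∀ k ∈ K, a * k * a⁻¹ ∈ K) → (∀ a ∈ A, (∀ k ∈ K, Commute a k) → a = 1) →
      Nat.card A ^ 2 * Nat.card (fixedSub ρ A) ≤ Nat.card U := by
  intro n
  induction n using Nat.strong_induction_on with
  | _ n ih =>
    intro A hn hA hAp hAK hfaith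
    by_cases hAb : A = ⊥
    · subst hAb
      simp only [card_bot, one_pow, one_mul]
      exact Nat.card_le_card_of_injective _ Subtype.val_injective
    have hne : ∃ a ∈ A, ∃ k ∈ K, ¬ Commute a k := by
      by_contra hall
      push Not at hall
      exact hAb ((Subgroup.eq_bot_iff_forall _).mpr fun a ha => hfaith a ha (hall a ha))
    obtain ⟨y, hy, a₀, ha₀, hc₀, hcov⟩ := exists_stabilizer_hyperplane hA hAp hK hKp hAK hne
    have hcA : ∀ u ∈ A, ∀ v ∈ A, Commute u v := fun u hu v hv =>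
      congrArg Subtype.val (hA.is_comm.comm (⟨u, hu⟩ : A) ⟨v, hv⟩)
    set B : Subgroup H := A ⊓ centralizer {y} with hB
    have hBA : B ≤ A := inf_le_left
    have hBy : ∀ b ∈ B, Commute b y := fun b hb => mem_centralizer_singleton_iff.mp hb.2
    have hBlt : B < A := lt_of_le_of_ne hBA fun he => hc₀ (hBy a₀ (he ▸ ha₀))
    have hBc : IsMulCommutative B := ⟨⟨fun u v => Subtype.ext (hcA u (hBA u.2) v (hBA v.2))⟩⟩
    have h1 := ih (Nat.card B) (by
      rw [← hn]
      exact lt_of_le_of_ne (Subgroup.card_le_of_le hBA) fun he =>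
        hBlt.ne (Subgroup.eq_of_le_of_card_ge hBA he.ge)) B rfl hBc
      (fun b hb => hAp b (hBA hb)) (fun b hb => hAK b (hBA hb)) fun b hb => hfaith b (hBA hb)
    -- `|A| ≤ p |B|`
    have hcardA : Nat.card A ≤ p * Nat.card B := by
      have hsurj : Function.Surjective (fun q : Fin p × B =>
          (⟨a₀ ^ (q.1 : ℕ) * q.2, mul_mem (pow_mem ha₀ _) (hBA q.2.2)⟩ : A)) := by
        rintro ⟨x, hx⟩
        obtain ⟨i, hi⟩ := hcov x hx
        have hi0 : 0 ≤ (-i) % (p : ℤ) := Int.emod_nonneg _ (by exact_mod_cast hp.out.ne_zero)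
        have hip : (-i) % (p : ℤ) < p := Int.emod_lt_of_pos _ (by exact_mod_cast hp.out.pos)
        refine ⟨(⟨((-i) % (p : ℤ)).toNat, by omega⟩, ⟨x * a₀ ^ i, mul_mem hx (zpow_mem ha₀ i),
          mem_centralizer_singleton_iff.mpr hi⟩), Subtype.ext ?_⟩
        show a₀ ^ ((-i) % (p : ℤ)).toNat * (x * a₀ ^ i) = x
        rw [← zpow_natCast, Int.toNat_of_nonneg hi0, ← mul_assoc,
          (hcA x hx _ (zpow_mem ha₀ _)).eq.symm, mul_assoc, ← zpow_add,
          show (-i) % (p : ℤ) + i = (p : ℤ) * (-((-i) / (p : ℤ))) by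
            have := Int.mul_ediv_add_emod (-i) p; linarith,
          zpow_mul, zpow_natCast, hAp a₀ ha₀, one_zpow, mul_one]
      have := Nat.card_le_card_of_surjective _ hsurj
      simpa [Nat.card_prod] using this
    -- the step `p² |C_U(A)| ≤ |C_U(B)|`
    let V := fixedSub ρ B
    have hBc' : ∀ g : H, (∀ b ∈ B, Commute b g) → ∀ u ∈ V, ρ g u ∈ V := fun g hg u hu b hb => by
      rw [← apply_mul, (hg b hb).eq, apply_mul, hu b hb]
    have hBp : IsPGroup p B := fun b => ⟨1, by
      rw [pow_one]; exact Subtype.ext (hAp _ (hBA b.2))⟩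
    let C : Subgroup H := centralizer (B : Set H)
    have hCmem : ∀ {g : H}, g ∈ C ↔ ∀ b ∈ B, Commute b g := mem_centralizer_iff
    let σ : C →* AddMonoid.End V :=
      { toFun := fun g =>
          { toFun := fun u => ⟨ρ g u, hBc' g (hCmem.mp g.2) u u.2⟩
            map_zero' := Subtype.ext (map_zero _)
            map_add' := fun u v => Subtype.ext (map_add (ρ (g : H)) (u : U) v) }
        map_one' := by ext u; show ρ ((1 : C) : H) (u : U) = u; simp
        map_mul' := fun g g' => by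
          ext u; exact apply_mul ρ g g' u }
    have haC : a₀ ∈ C := hCmem.mpr fun b hb => hcA b (hBA hb) a₀ ha₀
    have hyC : y ∈ C := hCmem.mpr hBy
    have hV : ∀ u : V, p • u = 0 := fun u => Subtype.ext (hpU u)
    have hstep : p ^ 2 * Nat.card (fixedSub ρ A) ≤ Nat.card V := by
      set d : AddMonoid.End V := σ ⟨a₀, haC⟩ - 1 with hd
      have hdapply : ∀ u : V, ((d u : V) : U) = ρ a₀ u - u := fun u => rfl
      have hker : Nat.card (d : V →+ V).ker = Nat.card (fixedSub ρ A) := by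
        refine Nat.card_congr
          { toFun := fun u => ⟨(u.1 : U), fun x hx => ?_⟩
            invFun := fun u => ⟨⟨u.1, fun b hb => u.2 b (hBA hb)⟩, ?_⟩
            left_inv := fun u => rfl
            right_inv := fun u => rfl }
        · obtain ⟨i, hi⟩ := hcov x hx
          have hu : ρ a₀ (u.1 : U) = u.1 :=
            sub_eq_zero.mp ((hdapply u.1).symm.trans (congrArg Subtype.val u.2))
          have hxB : x * a₀ ^ i ∈ B :=
            ⟨mul_mem hx (zpow_mem ha₀ i), mem_centralizer_singleton_iff.mpr hi⟩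
          have h2 := u.1.2 _ hxB
          rwa [apply_mul, apply_zpow_eq_self ρ hu] at h2
        · exact Subtype.ext ((hdapply _).trans (sub_eq_zero.mpr (u.2 a₀ ha₀)))
      have hidx := (d : V →+ V).ker.card_mul_index
      rw [show (d : V →+ V).ker.index = Nat.card (d : V →+ V).range from AddSubgroup.index_ker (d : V →+ V),
        hker] at hidx
      rw [← hidx, mul_comm]
      refine Nat.mul_le_mul_left _ ?_
      by_contra hlt
      -- the image has order at most `p`
      have hrange : Nat.card (d : V →+ V).range ≤ p := by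
        obtain ⟨k, hk⟩ : ∃ k, Nat.card (d : V →+ V).range = p ^ k := by
          have hpg : IsPGroup p (Multiplicative ↥((d : V →+ V).range : AddSubgroup V)) := fun x => ⟨1, by
            rw [pow_one]
            show p • x.toAdd = 0
            exact Subtype.ext (hV x.toAdd.1)⟩
          obtain ⟨k, hk⟩ := IsPGroup.iff_card.mp hpg
          exact ⟨k, (Nat.card_congr Multiplicative.ofAdd).trans hk⟩
        rw [hk] at hlt ⊢
        have := (Nat.pow_lt_pow_iff_right hp.out.one_lt).mp (not_le.mp hlt)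
        exact (Nat.pow_le_pow_right hp.out.pos (show k ≤ 1 by omega)).trans (pow_one p).le
      have hd2 : d * d = 0 := by
        -- `range d` has order at most `p` and is fixed by the `p`-element `a₀`
        obtain ⟨m, hm⟩ := exists_smul_of_card_range_le (L := (d : V →+ V).range) hrange hV
          (d : V →+ V) fun v _ => ⟨v, rfl⟩
        have hcharV : ((p : ℕ) : AddMonoid.End V) = 0 := by
          ext u; exact congrArg Subtype.val (hV u)
        have hdm : d * d = m • d := by ext u; exact congrArg Subtype.val (hm _ ⟨u, rfl⟩)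
        have hdp : d ^ p = 0 := by
          obtain ⟨r, hr⟩ := (Commute.neg_one_left (σ ⟨a₀, haC⟩)).exists_add_pow_prime_eq hp.out
          rw [hd, sub_eq_add_neg, add_comm, hr, hcharV, ← map_pow,
            show (⟨a₀, haC⟩ : C) ^ p = 1 from Subtype.ext (hAp a₀ ha₀), map_one,
            (hp.out.odd_of_ne_two hp2).neg_one_pow]
          simp
        have hpow : ∀ l : ℕ, d ^ (l + 1) = m ^ l • d := by
          intro l
          induction l with
          | zero => simp
          | succ l ihl => rw [pow_succ, ihl, smul_mul_assoc, hdm, smul_smul, ← pow_succ]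
        have h0 : m ^ (p - 1) • d = 0 := by
          rw [← hpow, Nat.sub_add_cancel hp.out.one_le, hdp]
        by_cases hpm : (p : ℤ) ∣ m
        · obtain ⟨k, rfl⟩ := hpm
          rw [hdm, mul_comm, mul_smul, natCast_zsmul, nsmul_eq_mul, hcharV, zero_mul]
          simp
        · obtain ⟨s, t, hst⟩ := (((Nat.prime_iff_prime_int.mp hp.out).coprime_iff_not_dvd.mpr
            hpm).pow_right (n := p - 1))
          have hd0 : d = 0 := by
            calc d = (s * (p : ℤ) + t * m ^ (p - 1)) • d := by rw [hst, one_smul]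
              _ = 0 := by
                rw [add_zsmul, mul_zsmul, mul_zsmul]
                simp [h0, hcharV, nsmul_eq_mul]
          rw [hd0, zero_mul]
      let K' : Subgroup C := K.subgroupOf C
      have hK' : IsMulCommutative K' := ⟨⟨fun u v => Subtype.ext (Subtype.ext
        (show ((u : C) : H) * ((v : C) : H) = ((v : C) : H) * ((u : C) : H) from
          congrArg Subtype.val
            (hK.is_comm.comm (⟨((u : C) : H), u.2⟩ : K) ⟨((v : C) : H), v.2⟩)))⟩⟩
      have hpow' : ∀ k ∈ K, k ^ Nat.card K = 1 := fun k hk =>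
        congrArg Subtype.val (pow_card_eq_one' (x := (⟨k, hk⟩ : K)))
      have hc := commute_of_transvection hp2 hV σ (a := ⟨a₀, haC⟩) (y := ⟨y, hyC⟩) hd2 hrange
        hK' hy (fun k hk => hAK a₀ ha₀ k hk) hKp.symm fun k hk => Subtype.ext (hpow' k hk)
      -- so `c := y a₀ y⁻¹ a₀⁻¹` fixes `C_U(B)`, hence `U`
      have hcK : y * a₀ * y⁻¹ * a₀⁻¹ ∈ K := by
        have := mul_mem hy (hAK a₀ ha₀ _ (inv_mem hy))
        simpa [mul_assoc] using this
      have hcB : ∀ b ∈ B, Commute b (y * a₀ * y⁻¹ * a₀⁻¹) := fun b hb =>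
        (((hBy b hb).mul_right (hcA b (hBA hb) a₀ ha₀)).mul_right (hBy b hb).inv_right).mul_right
          (hcA b (hBA hb) a₀ ha₀).inv_right
      have hall := apply_eq_self_of_fixes_fixedSub hpU ρ hBp hcB hKp.symm (hpow' _ hcK)
        fun u hu => congrArg Subtype.val (DFunLike.congr_fun hc (⟨u, hu⟩ : V))
      refine hc₀ ?_
      have hc1 : y * a₀ * y⁻¹ * a₀⁻¹ = 1 := hρ (by rw [map_one]; ext u; exact hall u)
      have : y * a₀ = a₀ * y := by
        calc y * a₀ = (y * a₀ * y⁻¹ * a₀⁻¹) * (a₀ * y) := by group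
          _ = a₀ * y := by rw [hc1, one_mul]
      exact this.symm
    calc Nat.card A ^ 2 * Nat.card (fixedSub ρ A)
        ≤ (p * Nat.card B) ^ 2 * Nat.card (fixedSub ρ A) :=
          Nat.mul_le_mul_right _ (Nat.pow_le_pow_left hcardA 2)
      _ = Nat.card B ^ 2 * (p ^ 2 * Nat.card (fixedSub ρ A)) := by ring
      _ ≤ Nat.card B ^ 2 * Nat.card V := Nat.mul_le_mul_left _ hstep
      _ ≤ Nat.card U := h1

end Cfsg.Agent.PComplement
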