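import Cfsg.Agent.Lib.PComplement.Quadratic
import Cfsg.Agent.Lib.PComplement.Thompson
import Cfsg.Agent.Lib.PGroup.Commutator

/-!
# Quadratic action and coprime elements in reduced groups
-/

set_option autoImplicit false

open Subgroup
open scoped commutatorElement

namespace Cfsg.Agent.PComplement

universe u

variable {p : ℕ} [hp : Fact p.Prime] {G : Type u} [Group G] [Finite G]
variable {P : Sylow p G} {V K : Subgroup G}

/-- In a reduced group every normal subgroup either lies in `V` or contains all `p'`-elements. -/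
theorem IsReduced.le_or_coprime_mem (h : IsReduced p (P : Subgroup G) V K) (N : Subgroup G)
    [N.Normal] : N ≤ V ∨ ∀ g : G, (orderOf g).Coprime p → g ∈ N := by
  by_cases hPN : (P : Subgroup G) ⊔ N = ⊤
  · right
    intro g hg
    have h1 : IsPGroup p (G ⧸ N) := by
      refine (P.2.map (QuotientGroup.mk' N)).of_equiv ?_
      refine (MulEquiv.subgroupCongr ?_).trans topEquiv
      refine comap_injective (QuotientGroup.mk'_surjective N) ?_
      rw [comap_map_eq, QuotientGroup.ker_mk', comap_top, hPN]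
    exact Transfer.pResidual_le_of_isPGroup_quotient h1 (Transfer.mem_pResidual_of_coprime hg)
  · left
    have hle : N ≤ (P : Subgroup G) := sup_eq_left.mp (h.maximal _ le_sup_left hPN)
    rw [h.eq_pCore]
    exact Thompson.le_pCore inferInstance (P.2.to_le hle)

/-- An element of `P` commuting with `K` modulo `V` lies in `V`. -/
theorem IsReduced.mem_of_comm_mem (h : IsReduced p (P : Subgroup G) V K) {x : G}
    (hx : x ∈ (P : Subgroup G)) (hxK : ∀ k ∈ K, ⁅x, k⁆ ∈ V) : x ∈ V := by
  have hVn : V.Normal := h.eq_pCore ▸ inferInstance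
  set f := QuotientGroup.mk' V with hf
  have hKbn : (K.map f).Normal := h.normal.map f (QuotientGroup.mk'_surjective V)
  set X : Subgroup (G ⧸ V) := (P : Subgroup G).map f ⊓ centralizer (K.map f : Set (G ⧸ V))
  have hXp : IsPGroup p X := (P.2.map f).to_le inf_le_left
  have hXn : X.Normal := by
    rw [← normalizer_eq_top_iff, ← top_le_iff]
    have htop : (P : Subgroup G).map f ⊔ K.map f = ⊤ := by
      rw [← Subgroup.map_sup, h.sup_eq_top, map_top_of_surjective f
        (QuotientGroup.mk'_surjective V)]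
    rw [← htop]
    refine sup_le (Coprime.le_normalizer_inf le_normalizer (Coprime.le_normalizer_centralizer ?_)) ?_
    · rw [normalizer_eq_top_iff.mpr hKbn]; exact le_top
    · refine le_trans ?_ (centralizer_le_normalizer _)
      rw [le_centralizer_iff]
      exact inf_le_right
  have hmem : f x ∈ pCore p (G ⧸ V) := by
    refine Thompson.le_pCore hXn hXp ⟨mem_map_of_mem f hx, mem_centralizer_iff.mpr ?_⟩
    rintro _ ⟨k, hk, rfl⟩
    refine ((commutatorElement_eq_one_iff_mul_comm (g₁ := f x) (g₂ := f k)).mp ?_).symm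
    rw [← map_commutatorElement]
    exact (QuotientGroup.eq_one_iff _).mpr (hxK k hk)
  rw [Thompson.pCore_quotient_eq_bot V (P.2.to_le h.le_sylow) h.eq_pCore.ge, mem_bot] at hmem
  exact (QuotientGroup.eq_one_iff x).mp hmem

omit hp in
/-- A `p'`-element stabilizing `1 ≤ B₂ ≤ B₁` with trivial action on both layers fixes `B₁`. -/
theorem commute_of_stabilizes {B₂ : Subgroup G} (hB₂p : IsPGroup p B₂) {g b : G}
    (hg : (orderOf g).Coprime p) (hz : g * b * g⁻¹ * b⁻¹ ∈ B₂)
    (hfix : ∀ z ∈ B₂, Commute g z) : Commute g b := by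
  set z := g * b * g⁻¹ * b⁻¹ with hzdef
  have hgz := hfix z hz
  have hiter : ∀ i : ℕ, g ^ i * b * (g ^ i)⁻¹ = z ^ i * b := by
    intro i
    induction i with
    | zero => simp
    | succ i ih =>
      calc g ^ (i + 1) * b * (g ^ (i + 1))⁻¹ = g * (g ^ i * b * (g ^ i)⁻¹) * g⁻¹ := by
            rw [pow_succ']; group
        _ = g * (z ^ i * b) * g⁻¹ := by rw [ih]
        _ = z ^ i * (g * b * g⁻¹) := by rw [← mul_assoc, (hgz.pow_right i).eq]; group
        _ = z ^ (i + 1) * b := by rw [pow_succ, hzdef]; group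
  have h1 := hiter (orderOf g)
  rw [pow_orderOf_eq_one, inv_one, mul_one, one_mul, right_eq_mul] at h1
  have hz1 : z = 1 := by
    obtain ⟨k, hk⟩ := hB₂p ⟨z, hz⟩
    have h2 := pow_gcd_eq_one.mpr ⟨h1, (congrArg Subtype.val hk : z ^ p ^ k = 1)⟩
    rwa [(hg.pow_right k), pow_one] at h2
  rw [hzdef, mul_inv_eq_one, mul_inv_eq_iff_eq_mul] at hz1
  exact hz1

open scoped IsMulCommutative in
/-- `p`-stability of reduced groups: a quadratic element on a self-centralizing-relevant normal
subgroup lies in `V`. -/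
theorem IsReduced.mem_of_quadratic (hp2 : p ≠ 2) (h : IsReduced p (P : Subgroup G) V K)
    {B : Subgroup G} [B.Normal] (hBV : B ≤ V) (hCB : centralizer (B : Set G) ≤ V) {a : G}
    (ha : a ∈ (P : Subgroup G)) (hq : ∀ b ∈ B, ⁅⁅b, a⁆, a⁆ = 1) : a ∈ V := by
  refine h.mem_of_comm_mem ha fun y hy => ?_
  have hVn : V.Normal := h.eq_pCore ▸ inferInstance
  have hKn := h.normal
  have hVp : IsPGroup p V := P.2.to_le h.le_sylow
  set n := V.relIndex K with hn
  have hpn : p.Coprime n := h.coprime.symm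
  have hKpow : ∀ k ∈ K, k ^ n ∈ V := by
    intro k hk
    rw [← QuotientGroup.eq_one_iff, ← QuotientGroup.mk'_apply, map_pow, hn,
      Thompson.relIndex_eq_card_map_mk']
    exact congrArg Subtype.val
      (pow_card_eq_one' (x := (⟨_, mem_map_of_mem _ hk⟩ : K.map (QuotientGroup.mk' V))))
  have hc : ⁅a, y⁆ ∈ K := by
    rw [commutatorElement_def]
    exact mul_mem (hKn.conj_mem y hy a) (inv_mem hy)
  -- the `p'`-part `g` of `⁅a, y⁆`
  obtain ⟨e, m, hm, he⟩ := Nat.exists_eq_pow_mul_and_not_dvd (orderOf_pos ⁅a, y⁆).ne' p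
    hp.out.ne_one
  set g := ⁅a, y⁆ ^ p ^ e with hg
  have hgp : (orderOf g).Coprime p := by
    refine Nat.Coprime.coprime_dvd_left ?_ ((hp.out.coprime_iff_not_dvd.mpr hm).symm)
    exact orderOf_dvd_of_pow_eq_one (by rw [hg, ← pow_mul, ← he, pow_orderOf_eq_one])
  suffices hgB : g ∈ centralizer (B : Set G) by
    have h1 : QuotientGroup.mk' V ⁅a, y⁆ ^ p ^ e = 1 := by
      rw [← map_pow]; exact (QuotientGroup.eq_one_iff _).mpr (hCB hgB)
    have h2 : QuotientGroup.mk' V ⁅a, y⁆ ^ n = 1 := by
      rw [← map_pow]; exact (QuotientGroup.eq_one_iff _).mpr (hKpow _ hc)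
    have h3 := pow_gcd_eq_one.mpr ⟨h1, h2⟩
    rw [(hpn.pow_left e), pow_one] at h3
    exact (QuotientGroup.eq_one_iff _).mp h3
  suffices key : ∀ (N : ℕ) (B₁ : Subgroup G) [B₁.Normal], Nat.card B₁ = N → B₁ ≤ B →
      ∀ b ∈ B₁, Commute g b from
    mem_centralizer_iff.mpr fun b hb => ((key _ B rfl le_rfl) b hb).eq.symm
  intro N
  induction N using Nat.strong_induction_on with
  | _ N ih =>
    intro B₁ hB₁n hN hB₁B b hb
    by_cases hB₁ : B₁ = ⊥
    · subst hB₁; rw [mem_bot.mp hb]; exact Commute.one_right g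
    obtain ⟨B₂, ⟨hB₂n, hB₂lt⟩, hmax⟩ :=
      (Set.toFinite {X : Subgroup G | X.Normal ∧ X < B₁}).exists_maximal
        ⟨⊥, inferInstance, bot_lt_iff_ne_bot.mpr hB₁⟩
    have hB₂p : IsPGroup p B₂ := hVp.to_le (hB₂lt.le.trans (hB₁B.trans hBV))
    set f := QuotientGroup.mk' B₂ with hf
    set U : Subgroup (G ⧸ B₂) := B₁.map f with hUdef
    have hUn : U.Normal := hB₁n.map f (QuotientGroup.mk'_surjective B₂)
    have hUne : U ≠ ⊥ := by
      rw [hUdef, Ne, Subgroup.map_eq_bot_iff, QuotientGroup.ker_mk']; exact hB₂lt.not_ge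
    have hUV : U ≤ V.map f := map_mono (hB₁B.trans hBV)
    have hmin : ∀ X : Subgroup (G ⧸ B₂), X.Normal → X ≤ U → X = ⊥ ∨ X = U := by
      intro X hX hXU
      by_contra hcon
      push Not at hcon
      obtain ⟨hX1, hX2⟩ := hcon
      have h1 : X.comap f ≤ B₁ := by
        refine (comap_mono hXU).trans ?_
        rw [hUdef, comap_map_eq, QuotientGroup.ker_mk', sup_eq_left.mpr hB₂lt.le]
      have h2 : X.comap f ≠ B₁ := fun he => hX2 (by
        rw [hUdef, ← he, map_comap_eq_self_of_surjective (QuotientGroup.mk'_surjective B₂)])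
      have h3 : B₂ ≤ X.comap f := fun z hz => by
        rw [mem_comap, hf, QuotientGroup.mk'_apply, (QuotientGroup.eq_one_iff z).mpr hz]
        exact one_mem _
      have h4 := hmax (y := X.comap f) ⟨normal_comap f, lt_of_le_of_ne h1 h2⟩ h3
      apply hX1
      rw [← map_comap_eq_self_of_surjective (QuotientGroup.mk'_surjective B₂) X,
        Subgroup.map_eq_bot_iff, QuotientGroup.ker_mk']
      exact h4
    have hVUc : ⁅U, V.map f⁆ = ⊥ := by
      have hVfn : (V.map f).Normal := hVn.map f (QuotientGroup.mk'_surjective B₂)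
      rcases hmin ⁅U, V.map f⁆ inferInstance (commutator_le_left U (V.map f)) with h' | h'
      · exact h'
      · exact absurd (Coprime.eq_bot_of_le_commutator (V.map f) (hVp.map f).isNilpotent hUV h'.ge)
          hUne
    have hUc : IsMulCommutative U :=
      commutator_self_eq_bot_iff.mp (le_bot_iff.mp ((commutator_mono le_rfl hUV).trans hVUc.le))
    have hUexp : ∀ z ∈ U, z ^ p = 1 := by
      let X : Subgroup (G ⧸ B₂) :=
        { carrier := {z | z ∈ U ∧ z ^ p = 1}
          one_mem' := ⟨one_mem _, one_pow _⟩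
          mul_mem' := fun {u v} hu hv => ⟨mul_mem hu.1 hv.1, by
            rw [Commute.mul_pow (congrArg Subtype.val
              (hUc.is_comm.comm (⟨u, hu.1⟩ : U) ⟨v, hv.1⟩)), hu.2, hv.2, one_mul]⟩
          inv_mem' := fun {u} hu => ⟨inv_mem hu.1, by rw [inv_pow, hu.2, inv_one]⟩ }
      have hXn : X.Normal := ⟨fun u hu g => ⟨hUn.conj_mem u hu.1 g, by
        rw [conj_pow, hu.2, mul_one, mul_inv_cancel]⟩⟩
      have hUp : IsPGroup p U := (hVp.map f).to_le hUV
      obtain ⟨z, hz⟩ := exists_prime_orderOf_dvd_card' (G := U) p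
        (hUp.card_eq_or_dvd.resolve_left fun h => hUne (U.eq_bot_of_card_eq h))
      rcases hmin X hXn (fun u hu => hu.1) with h' | h'
      · exfalso
        have hzX : ((z : U) : G ⧸ B₂) ∈ X := ⟨z.2, by
          have := congrArg Subtype.val (hz ▸ pow_orderOf_eq_one z : z ^ p = 1)
          simpa using this⟩
        rw [h', mem_bot] at hzX
        rw [show z = 1 from Subtype.ext hzX, orderOf_one] at hz
        exact hp.out.one_lt.ne hz
      · exact fun u hu => (h'.ge hu).2
    let ρ : G →* AddMonoid.End (Additive U) := (conjEnd U).comp f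
    have hρker : ∀ v ∈ V, ρ v = 1 := fun v hv => (conjEnd_eq_one_iff U).mpr
      ((le_centralizer_iff.mp ((commutator_eq_bot_iff_le_centralizer).mp hVUc))
        (mem_map_of_mem f hv))
    have hchar : ((p : ℕ) : AddMonoid.End (Additive U)) = 0 := by
      ext u
      exact congrArg Subtype.val (Subtype.ext (hUexp _ (Additive.toMul u).2) :
        (Additive.toMul u) ^ p = 1)
    have hρa : ∀ (g : G) (u : Additive U), (ρ g - 1) u = Additive.ofMul
        (⟨⁅f g, ((Additive.toMul u : U) : G ⧸ B₂)⁆, by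
          rw [commutatorElement_def]
          exact mul_mem (hUn.conj_mem _ (Additive.toMul u).2 _) (inv_mem (Additive.toMul u).2)⟩ :
          U) := by
      intro g u
      apply Additive.toMul.injective
      apply Subtype.ext
      show ((Additive.toMul (ρ g u) / Additive.toMul u : U) : G ⧸ B₂) = _
      rw [div_eq_mul_inv]
      rfl
    have had : (ρ a - 1) * (ρ a - 1) = 0 := by
      ext u
      show ((Additive.toMul ((ρ a - 1) ((ρ a - 1) u)) : U) : G ⧸ B₂) = 1
      rw [hρa, hρa]
      obtain ⟨w, hw, hwu⟩ := (Additive.toMul u).2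
      show ⁅f a, ⁅f a, ((Additive.toMul u : U) : G ⧸ B₂)⁆⁆ = 1
      rw [← hwu, ← map_commutatorElement, ← map_commutatorElement,
        ← commutatorElement_inv w a, commutatorElement_eq_one_iff_commute.mpr
          ((commutatorElement_eq_one_iff_commute.mp (hq w (hB₁B hw))).inv_left.symm), map_one]
    have hKcomm : ∀ x ∈ K, ∀ z ∈ K, Commute (ρ x) (ρ z) := by
      intro x hx z hz
      show ρ x * ρ z = ρ z * ρ x
      rw [← map_mul, PGroup.mul_eq_comm_mul_swap x z, map_mul,
        hρker _ (h.comm_mem x hx z hz), one_mul, map_mul]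
    have hcom := commute_of_quadratic hp2 hchar ρ had hKcomm (fun k hk => hKn.conj_mem k hk a)
      hpn (fun k hk => by rw [← map_pow]; exact hρker _ (hKpow k hk)) hy
    have hρg : ρ g = 1 := by
      have hc1 : ρ ⁅a, y⁆ = 1 := by
        rw [commutatorElement_def, map_mul, map_mul, map_mul, hcom.eq, mul_assoc (ρ y), ← map_mul,
          mul_inv_cancel, map_one, mul_one, ← map_mul, mul_inv_cancel, map_one]
      rw [hg, map_pow, hc1, one_pow]
    have hgfix : g * b * g⁻¹ * b⁻¹ ∈ B₂ := by
      have h1 : f g ∈ centralizer (U : Set (G ⧸ B₂)) := (conjEnd_eq_one_iff U).mp hρg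
      rw [← QuotientGroup.eq_one_iff, ← QuotientGroup.mk'_apply, ← hf, map_mul, map_mul, map_mul,
        ← (mem_centralizer_iff.mp h1 _ (mem_map_of_mem f hb)), mul_assoc (f b), ← map_mul f g,
        mul_inv_cancel, map_one, mul_one, ← map_mul, mul_inv_cancel, map_one]
    have hlt : Nat.card B₂ < N := hN ▸ lt_of_le_of_ne (card_le_of_le hB₂lt.le)
      fun he => hB₂lt.ne (eq_of_le_of_card_ge hB₂lt.le he.ge)
    exact commute_of_stabilizes hB₂p hgp hgfix (ih _ hlt B₂ rfl (hB₂lt.le.trans hB₁B))

omit [Finite G] in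
/-- Normalizers of `p`-subgroups in quotients by normal `p'`-subgroups come from normalizers. -/
theorem exists_mul_mem_normalizer_of_map [Finite G] (P : Sylow p G) {N : Subgroup G} [N.Normal]
    (hN : (Nat.card N).Coprime p) {X : Subgroup G} (hX : X ≤ (P : Subgroup G)) {g : G}
    (hg : QuotientGroup.mk' N g ∈ normalizer (X.map (QuotientGroup.mk' N) : Set (G ⧸ N))) :
    ∃ k ∈ N, k * g ∈ normalizer (X : Set G) := by
  have hnN : ∀ Y : Subgroup G, Y ≤ normalizer (N : Set G) := fun Y => by
    rw [normalizer_eq_top_iff.mpr (inferInstance : N.Normal)]; exact le_top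
  set A : Subgroup G := X.map (MulAut.conj g).toMonoidHom with hA
  have hAp : IsPGroup p A := (P.2.to_le hX).map _
  have hcop : (Nat.card A).Coprime (Nat.card N) := by
    obtain ⟨a, ha⟩ := IsPGroup.iff_card.mp hAp
    rw [ha]; exact (hN.pow_right a).symm
  have hle : A ≤ N ⊔ X := by
    rw [sup_comm, ← QuotientGroup.ker_mk' N, ← comap_map_eq]
    rintro _ ⟨x, hx, rfl⟩
    rw [mem_comap]
    show QuotientGroup.mk' N (g * x * g⁻¹) ∈ X.map (QuotientGroup.mk' N)
    rw [map_mul, map_mul, map_inv]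
    exact (mem_normalizer_iff.mp hg _).mp (mem_map_of_mem _ hx)
  obtain ⟨k, hk, hkA⟩ := Coprime.exists_conj_le_of_le_sup A N X (hnN A) (hnN X) hcop
    (Or.inl (Coprime.isSolvable_of_isNilpotent' hAp.isNilpotent)) hle
  refine ⟨k, hk, mem_normalizer_iff_map_conj_eq.mpr ?_⟩
  refine eq_of_le_of_card_ge ?_ (card_map_of_injective (MulAut.conj (k * g)).injective).ge
  rintro _ ⟨x, hx, rfl⟩
  have := hkA _ (mem_map_of_mem _ hx)
  show k * g * x * (k * g)⁻¹ ∈ X
  simpa [mul_assoc] using this

end Cfsg.Agent.PComplement
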