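import Cfsg.Agent.Lib.Thompson.PSolvable
import Cfsg.Agent.Lib.Transfer.Residual
import Cfsg.Agent.Lib.Transfer.Frobenius
import Cfsg.Agent.Lib.Coprime.Action

/-!
# The minimal counterexample reduction for Thompson-type normal `p`-complement theorems

A "criterion" is a predicate `Good G P` on a finite group with a Sylow subgroup `P`.  If it is
inherited by the relevant subgroups and quotients, and cannot hold in a reduced group
(`IsReduced`), then it forces a normal `p`-complement.
-/

set_option autoImplicit false

open Subgroup
open scoped commutatorElement Pointwise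

namespace Cfsg.Agent.PComplement

universe u

/-- A reduced group: `V = O_p(G)` is self-centralizing, `P` is maximal, `G = P K` with `K / V` a
non-trivial abelian `p'`-group. -/
structure IsReduced (p : ℕ) {G : Type u} [Group G] (P V K : Subgroup G) : Prop where
  not_complement : ¬ HasNormalPComplement p G
  eq_pCore : V = pCore p G
  ne_bot : V ≠ ⊥
  le_sylow : V ≤ P
  centralizer_le : centralizer (V : Set G) ≤ V
  normal : K.Normal
  le_normal : V ≤ K
  not_le : ¬ K ≤ V
  comm_mem : ∀ x ∈ K, ∀ y ∈ K, ⁅x, y⁆ ∈ V
  coprime : (V.relIndex K).Coprime p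
  sup_eq_top : P ⊔ K = ⊤
  maximal : ∀ M : Subgroup G, P ≤ M → M ≠ ⊤ → M = P

variable {p : ℕ} [hp : Fact p.Prime]

section Lemmas

variable {G : Type u} [Group G] [Finite G]

/-- A `p'`-element of a group with a normal `p`-complement centralizes every normal
`p`-subgroup. -/
theorem mem_centralizer_of_complement {M V : Subgroup G} (hM : HasNormalPComplement p M)
    (hV : IsPGroup p V) (hVM : V ≤ M) [V.Normal] {g : G} (hg : g ∈ M)
    (hgp : (orderOf g).Coprime p) : g ∈ centralizer (V : Set G) := by
  have h1 := Transfer.mem_centralizer_of_hasNormalPComplement hM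
    (Q := V.subgroupOf M) (hV.comap_subtype) (g := ⟨g, hg⟩)
    (by
      have : (V.subgroupOf M).Normal := inferInstance
      rw [normalizer_eq_top_iff.mpr this]
      exact mem_top _)
    (by rwa [orderOf_mk])
  rw [mem_centralizer_iff] at h1 ⊢
  exact fun v hv => congrArg Subtype.val (h1 ⟨v, hVM hv⟩ hv)

/-- A subgroup containing the Sylow `p`-subgroup, with no non-trivial `p'`-elements, equals it. -/
theorem eq_sylow_of_coprime_eq_one (P : Sylow p G) {M : Subgroup G} (hPM : (P : Subgroup G) ≤ M)
    (h : ∀ g ∈ M, (orderOf g).Coprime p → g = 1) : M = P := by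
  refine P.is_maximal' (fun g => ?_) hPM
  obtain ⟨e, m, hm, he⟩ := Nat.exists_eq_pow_mul_and_not_dvd (orderOf_pos (g : G)).ne' p
    hp.out.ne_one
  refine ⟨e, Subtype.ext (h _ (pow_mem g.2 _) ?_)⟩
  have hdvd : orderOf ((g : G) ^ p ^ e) ∣ m :=
    orderOf_dvd_of_pow_eq_one (by rw [← pow_mul, ← he, pow_orderOf_eq_one])
  exact Nat.Coprime.coprime_dvd_left hdvd ((hp.out.coprime_iff_not_dvd.mpr hm).symm)

/-- A group with a normal `p`-complement is `p`-solvable. -/
theorem isPSolvable_of_complement (h : HasNormalPComplement p G) : IsPSolvable p G := by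
  refine Thompson.isPSolvable_of_quotient (pResidual p G) (Or.inr ?_)
    (Thompson.isPSolvable_of_isPGroup Transfer.isPGroup_quotient_pResidual)
  exact (hp.out.coprime_iff_not_dvd.mpr (Transfer.hasNormalPComplement_iff_not_dvd.mp h)).symm

/-- Lifting a normal `p`-complement modulo a normal `p'`-subgroup. -/
theorem hasNormalPComplement_of_quotient {N : Subgroup G} [N.Normal]
    (hN : (Nat.card N).Coprime p) (h : HasNormalPComplement p (G ⧸ N)) :
    HasNormalPComplement p G := by
  have hnd := Transfer.hasNormalPComplement_iff_not_dvd.mp h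
  refine Transfer.hasNormalPComplement_of_not_dvd_card
    (N := (pResidual p (G ⧸ N)).comap (QuotientGroup.mk' N)) ?_ ?_
  · rw [Thompson.card_comap_quotient, hp.out.dvd_mul]
    rintro (hd | hd)
    · exact hnd hd
    · exact (hp.out.coprime_iff_not_dvd.mp hN.symm) hd
  · obtain ⟨n, hn⟩ := Transfer.exists_index_pResidual (p := p) (G := G ⧸ N)
    refine IsPGroup.of_card (n := n) ?_
    rw [← index_eq_card, index_comap_of_surjective _ (QuotientGroup.mk'_surjective N), hn]

/-- In a group without normal `p`-complement some non-trivial `p`-subgroup has a normalizer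
without normal `p`-complement (Frobenius). -/
theorem exists_normalizer_without_complement (hG : ¬ HasNormalPComplement p G) :
    ∃ H : Subgroup G, IsPGroup p H ∧ H ≠ ⊥ ∧
      ¬ HasNormalPComplement p (normalizer (H : Set G)) := by
  obtain ⟨P⟩ : Nonempty (Sylow p G) := inferInstance
  by_contra hcon
  push Not at hcon
  refine hG (Transfer.hasNormalPComplement_of_normalizer_centralizer P fun Q hQ hQb g hg hgp => ?_)
  have h1 := Transfer.mem_centralizer_of_hasNormalPComplement (hcon Q (P.2.to_le hQ) hQb)
    (Q := Q.subgroupOf (normalizer (Q : Set G))) ((P.2.to_le hQ).comap_subtype) (g := ⟨g, hg⟩)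
    (by
      have : (Q.subgroupOf (normalizer (Q : Set G))).Normal := inferInstance
      rw [normalizer_eq_top_iff.mpr this]
      exact mem_top _)
    (by rwa [orderOf_mk])
  rw [mem_centralizer_iff] at h1 ⊢
  exact fun v hv => congrArg Subtype.val (h1 ⟨v, le_normalizer hv⟩ hv)

end Lemmas

/-- The reduction. -/
theorem hasNormalPComplement_of_criterion
    (Good : ∀ (G : Type u) [Group G] [Finite G], Subgroup G → Prop)
    (hmono : ∀ (G : Type u) [Group G] [Finite G] (P : Sylow p G) (M : Subgroup G),
      (P : Subgroup G) ≤ M → Good G P → Good M ((P : Subgroup G).subgroupOf M))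
    (hloc : ∀ (G : Type u) [Group G] [Finite G] (P : Sylow p G) (H : Subgroup G),
      H ≠ ⊥ → H ≤ (P : Subgroup G) →
      (∀ K : Subgroup G, K ≤ (P : Subgroup G) → K ≠ ⊥ →
        normalizer (((P : Subgroup G) ⊓ normalizer (H : Set G) : Subgroup G) : Set G) ≤
          normalizer (K : Set G) →
        HasNormalPComplement p (normalizer (K : Set G))) →
      Good G P → Good (normalizer (H : Set G))
        (((P : Subgroup G) ⊓ normalizer (H : Set G)).subgroupOf (normalizer (H : Set G))))
    (hquot : ∀ (G : Type u) [Group G] [Finite G] (P : Sylow p G) (V : Subgroup G) [V.Normal],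
      V ≠ ⊥ → V < (P : Subgroup G) →
      (∀ K : Subgroup G, V < K → K ≤ (P : Subgroup G) →
        (P : Subgroup G) ≤ normalizer (K : Set G) →
        HasNormalPComplement p (normalizer (K : Set G))) →
      Good G P → Good (G ⧸ V) ((P : Subgroup G).map (QuotientGroup.mk' V)))
    (hcop : ∀ (G : Type u) [Group G] [Finite G] (P : Sylow p G) (N : Subgroup G) [N.Normal],
      (Nat.card N).Coprime p → Good G P →
        Good (G ⧸ N) ((P : Subgroup G).map (QuotientGroup.mk' N)))
    (hfinal : ∀ (G : Type u) [Group G] [Finite G] (P : Sylow p G) (V K : Subgroup G),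
      Good G P → IsReduced p (P : Subgroup G) V K → False) :
    ∀ (G : Type u) [Group G] [Finite G] (P : Sylow p G), Good G P → HasNormalPComplement p G := by
  suffices h : ∀ (n : ℕ) (G : Type u) [Group G] [Finite G], Nat.card G = n → ∀ (P : Sylow p G),
      Good G P → HasNormalPComplement p G from fun G _ _ P hP => h _ G rfl P hP
  intro n
  induction n using Nat.strong_induction_on with
  | _ n ih =>
    intro G _ _ hn P hP
    by_contra hG
    -- quotients
    have hlt : ∀ N : Subgroup G, N.Normal → N ≠ ⊥ → Nat.card (G ⧸ N) < n := by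
      intro N _ hN
      rw [← hn, card_eq_card_quotient_mul_card_subgroup N]
      exact lt_mul_of_one_lt_right Nat.card_pos ((one_lt_card_iff_ne_bot _).mpr hN)
    -- subgroups containing `P`
    have hsub : ∀ M : Subgroup G, (P : Subgroup G) ≤ M → M ≠ ⊤ → HasNormalPComplement p M := by
      intro M hPM hM
      refine ih (Nat.card M) ?_ M rfl (P.subtype hPM) (hmono G P M hPM hP)
      rw [← hn]
      exact lt_of_le_of_ne (card_le_card_group M) fun he => hM (eq_top_of_card_eq M he)
    -- `O_{p'}(G) = 1`
    have hO : pPrimeCore p G = ⊥ := by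
      by_contra hO
      refine hG (hasNormalPComplement_of_quotient Thompson.card_pPrimeCore_coprime ?_)
      exact ih _ (hlt _ inferInstance hO) _ rfl
        (P.mapSurjective (QuotientGroup.mk'_surjective _))
        (hcop G P (pPrimeCore p G) Thompson.card_pPrimeCore_coprime hP)
    -- choose a `p`-local subgroup without complement
    obtain ⟨H₀, ⟨hH₀, hH₀b, hH₀n⟩, hmax⟩ :=
      Set.exists_max_image {H : Subgroup G | IsPGroup p H ∧ H ≠ ⊥ ∧
          ¬ HasNormalPComplement p (normalizer (H : Set G))}
        (fun H => (Nat.card (normalizer (H : Set G))).factorization p * (Nat.card G + 1)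
          + Nat.card H)
        (Set.toFinite _) (exists_normalizer_without_complement hG)
    -- conjugate it into `P`
    obtain ⟨S₀⟩ : Nonempty (Sylow p (normalizer (H₀ : Set G))) := inferInstance
    have hS₀ : IsPGroup p ((S₀ : Subgroup (normalizer (H₀ : Set G))).map
        (normalizer (H₀ : Set G)).subtype) := S₀.2.map _
    obtain ⟨P₀, hP₀⟩ := hS₀.exists_le_sylow
    obtain ⟨g, hg⟩ := MulAction.exists_smul_eq G P₀ P
    set H : Subgroup G := H₀.map (MulAut.conj g).toMonoidHom with hHdef
    have hNH : normalizer (H : Set G) = (normalizer (H₀ : Set G)).map (MulAut.conj g).toMonoidHom :=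
      (map_equiv_normalizer_eq H₀ (MulAut.conj g)).symm
    have hcardN : Nat.card (normalizer (H : Set G)) = Nat.card (normalizer (H₀ : Set G)) := by
      rw [hNH, card_map_of_injective (MulAut.conj g).injective]
    have hcardH : Nat.card H = Nat.card H₀ := card_map_of_injective (MulAut.conj g).injective
    have hHb : H ≠ ⊥ := by
      rw [Ne, Subgroup.map_eq_bot_iff_of_injective _ (MulAut.conj g).injective]; exact hH₀b
    have hHn : ¬ HasNormalPComplement p (normalizer (H : Set G)) := by
      intro h
      refine hH₀n ((Transfer.hasNormalPComplement_congr ?_).mp h)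
      exact (MulEquiv.subgroupCongr hNH).trans (equivMapOfInjective _ _ (MulAut.conj g).injective).symm
    set S : Subgroup G := ((S₀ : Subgroup (normalizer (H₀ : Set G))).map
        (normalizer (H₀ : Set G)).subtype).map (MulAut.conj g).toMonoidHom with hSdef
    have hSP : S ≤ (P : Subgroup G) := by
      rw [← hg, Sylow.coe_subgroup_smul]
      exact map_mono hP₀
    have hSN : S ≤ normalizer (H : Set G) := hNH ▸ map_mono (map_subtype_le _)
    have hScard : Nat.card S = p ^ (Nat.card (normalizer (H : Set G))).factorization p := by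
      rw [hcardN, hSdef, card_map_of_injective (MulAut.conj g).injective,
        card_map_of_injective (normalizer (H₀ : Set G)).subtype_injective, S₀.card_eq_multiplicity]
    have hPN : (P : Subgroup G) ⊓ normalizer (H : Set G) = S := by
      refine (eq_of_le_of_card_ge (le_inf hSP hSN) ?_).symm
      obtain ⟨k, hk⟩ := IsPGroup.iff_card.mp (P.2.to_inf_left :
        IsPGroup p ((P : Subgroup G) ⊓ normalizer (H : Set G) : Subgroup G))
      have hd : p ^ k ∣ Nat.card (normalizer (H : Set G)) := hk ▸ card_dvd_of_le inf_le_right
      rw [hk, hScard]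
      exact Nat.pow_le_pow_right hp.out.pos
        ((hp.out.pow_dvd_iff_le_factorization Nat.card_pos.ne').mp hd)
    have hHP : H ≤ (P : Subgroup G) := by
      refine le_trans ?_ hSP
      refine map_mono fun x hx => ?_
      have hp0 : IsPGroup p (H₀.subgroupOf (normalizer (H₀ : Set G))) := hH₀.comap_subtype
      have hle : H₀.subgroupOf (normalizer (H₀ : Set G)) ≤ S₀ := hp0.le_sylow_of_normal S₀
      exact ⟨⟨x, le_normalizer hx⟩, hle hx, rfl⟩
    have hmax' : ∀ K : Subgroup G, IsPGroup p K → K ≠ ⊥ →
        ¬ HasNormalPComplement p (normalizer (K : Set G)) →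
        (Nat.card (normalizer (K : Set G))).factorization p * (Nat.card G + 1) + Nat.card K ≤
          (Nat.card (normalizer (H : Set G))).factorization p * (Nat.card G + 1) + Nat.card H := by
      intro K h1 h2 h3
      rw [hcardN, hcardH]
      exact hmax K ⟨h1, h2, h3⟩
    by_cases hHtop : normalizer (H : Set G) = ⊤
    swap
    · by_cases hPS : (P : Subgroup G) ≤ normalizer (H : Set G)
      · exact hHn (hsub _ hPS hHtop)
      have hlt' : S < (P : Subgroup G) :=
        lt_of_le_of_ne hSP fun he => hPS (he ▸ hSN)
      obtain ⟨QN, hQN⟩ : ∃ Q : Sylow p (normalizer (H : Set G)),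
          (Q : Subgroup (normalizer (H : Set G))) = S.subgroupOf (normalizer (H : Set G)) := by
        refine ⟨Sylow.ofCard (S.subgroupOf (normalizer (H : Set G))) ?_, rfl⟩
        rw [Nat.card_congr (subgroupOfEquivOfLe hSN).toEquiv, hScard]
      have hgood := hloc G P H hHb hHP (fun K hKP hKb hKN => ?_) hP
      · rw [hPN, ← hQN] at hgood
        refine hHn (ih _ ?_ _ rfl QN hgood)
        rw [← hn]
        exact lt_of_le_of_ne (card_le_card_group _) fun he => hHtop (eq_top_of_card_eq _ he)
      rw [hPN] at hKN
      by_contra hKn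
      have hnc := (P.2.isNilpotent : Group.IsNilpotent (P : Subgroup G))
      have hprop : S.subgroupOf (P : Subgroup G) < ⊤ :=
        lt_top_iff_ne_top.mpr fun he => hlt'.not_ge (subgroupOf_eq_top.mp he)
      obtain ⟨x, hx, hxS⟩ := SetLike.exists_of_lt
        (Group.normalizerCondition_of_isNilpotent _ hprop)
      have hxN : (x : G) ∈ normalizer (S : Set G) := by
        rw [mem_normalizer_iff]
        intro y
        constructor
        · intro hy
          exact (mem_normalizer_iff.mp hx ⟨y, hSP hy⟩).mp hy
        · intro hy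
          have hyP : y ∈ (P : Subgroup G) := by
            have := mul_mem (mul_mem (inv_mem x.2) (hSP hy)) x.2
            simpa [mul_assoc] using this
          exact (mem_normalizer_iff.mp hx ⟨y, hyP⟩).mpr hy
      set T : Subgroup G := (P : Subgroup G) ⊓ normalizer (S : Set G) with hT
      have hST : S < T := lt_of_le_of_ne (le_inf hSP le_normalizer) fun he =>
        hxS (show (x : G) ∈ S from he ▸ ⟨x.2, hxN⟩)
      obtain ⟨k, hk⟩ := IsPGroup.iff_card.mp (P.2.to_inf_left : IsPGroup p T)
      have hkk : (Nat.card (normalizer (H : Set G))).factorization p < k := by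
        have h1 : Nat.card S < Nat.card T := lt_of_le_of_ne (card_le_of_le hST.le) fun he =>
          hST.ne (eq_of_le_of_card_ge hST.le he.ge)
        rw [hScard, hk] at h1
        exact (Nat.pow_lt_pow_iff_right hp.out.one_lt).mp h1
      have hkK : k ≤ (Nat.card (normalizer (K : Set G))).factorization p :=
        (hp.out.pow_dvd_iff_le_factorization Nat.card_pos.ne').mp
          (hk ▸ card_dvd_of_le (inf_le_right.trans hKN))
      have := hmax' K (P.2.to_le hKP) hKb hKn
      have h2 : Nat.card H ≤ Nat.card G := card_le_card_group H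
      nlinarith
    -- `H = O_p(G)`
    have hHnormal : H.Normal := normalizer_eq_top_iff.mp hHtop
    have hHp : IsPGroup p H := P.2.to_le hHP
    have hbig : ∀ K : Subgroup G, H < K → K ≤ (P : Subgroup G) →
        (P : Subgroup G) ≤ normalizer (K : Set G) →
        HasNormalPComplement p (normalizer (K : Set G)) := by
      intro K hHK hKP hPK
      by_contra hKn
      have h1 := hmax' K (P.2.to_le hKP) (fun hb => hHb (le_bot_iff.mp (hb ▸ hHK.le))) hKn
      have h2 : (Nat.card (normalizer (H : Set G))).factorization p
          ≤ (Nat.card (normalizer (K : Set G))).factorization p := by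
        have hfull : (Nat.card (normalizer (H : Set G))).factorization p =
            (Nat.card G).factorization p := by rw [hHtop, card_top]
        rw [hfull]
        exact (hp.out.pow_dvd_iff_le_factorization Nat.card_pos.ne').mp
          (P.card_eq_multiplicity ▸ card_dvd_of_le hPK)
      have h3 : Nat.card H < Nat.card K := lt_of_le_of_ne (card_le_of_le hHK.le) fun he =>
        hHK.ne (eq_of_le_of_card_ge hHK.le he.ge)
      nlinarith
    have hcore : H = pCore p G := by
      refine eq_of_le_of_not_lt (Thompson.le_pCore hHnormal hHp) fun hlt' => hG ?_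
      have := hbig _ hlt' (Thompson.pCore_le_sylow P) (by
        rw [normalizer_eq_top_iff.mpr (inferInstance : (pCore p G).Normal)]; exact le_top)
      exact (Transfer.hasNormalPComplement_congr
        ((MulEquiv.subgroupCongr (normalizer_eq_top_iff.mpr
          (inferInstance : (pCore p G).Normal))).trans topEquiv)).mp this
    -- the quotient has a normal `p`-complement
    have hQ : HasNormalPComplement p (G ⧸ H) := by
      by_cases hPH : H = (P : Subgroup G)
      · refine Transfer.hasNormalPComplement_of_not_dvd ?_
        rw [← index_eq_card, hPH]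
        have : (P : Subgroup G).Normal := hPH ▸ hHnormal
        exact P.not_dvd_index
      · exact ih _ (hlt H hHnormal hHb) _ rfl (P.mapSurjective (QuotientGroup.mk'_surjective H))
          (hquot G P H hHb (lt_of_le_of_ne hHP hPH) hbig hP)
    have hps : IsPSolvable p G :=
      Thompson.isPSolvable_of_quotient H (Or.inl hHp) (isPSolvable_of_complement hQ)
    have hCH : centralizer (H : Set G) ≤ H := by
      rw [hcore]; exact Thompson.centralizer_pCore_le hps hO
    -- subgroups containing `P`
    have hmaxP : ∀ M : Subgroup G, (P : Subgroup G) ≤ M → M ≠ ⊤ → M = P := by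
      intro M hPM hM
      refine eq_sylow_of_coprime_eq_one P hPM fun g hg hgp => ?_
      exact Transfer.eq_one_of_coprime_of_mem hHp
        (hCH (mem_centralizer_of_complement (hsub M hPM hM) hHp (hHP.trans hPM) hg hgp)) hgp
    set f := QuotientGroup.mk' H with hf
    have hfs := QuotientGroup.mk'_surjective H
    set Pb : Sylow p (G ⧸ H) := P.mapSurjective hfs with hPb
    set N := pResidual p (G ⧸ H) with hN
    have hNp : (Nat.card N).Coprime p :=
      (hp.out.coprime_iff_not_dvd.mpr (Transfer.hasNormalPComplement_iff_not_dvd.mp hQ)).symm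
    have hPN' : (Pb : Subgroup (G ⧸ H)) ⊔ N = ⊤ := Transfer.sylow_sup_pResidual_eq_top Pb
    have hNb : N ≠ ⊥ := by
      intro hb
      refine hG (Transfer.hasNormalPComplement_of_isPGroup ?_)
      have h1 : IsPGroup p (G ⧸ H) := by
        have this : IsPGroup p ((G ⧸ H) ⧸ N) := Transfer.isPGroup_quotient_pResidual
        exact this.of_equiv ((QuotientGroup.quotientMulEquivOfEq hb).trans QuotientGroup.quotientBot)
      obtain ⟨a, ha⟩ := IsPGroup.iff_card.mp h1
      obtain ⟨b, hb'⟩ := IsPGroup.iff_card.mp hHp
      exact IsPGroup.of_card (n := a + b) (by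
        rw [card_eq_card_quotient_mul_card_subgroup H, ha, hb', pow_add])
    -- a subgroup `X` of `N` normalized by `Pb` is trivial or everything
    have hirr : ∀ X : Subgroup (G ⧸ H), X ≤ N →
        (Pb : Subgroup (G ⧸ H)) ≤ normalizer (X : Set (G ⧸ H)) → X = ⊥ ∨ X = N := by
      intro X hXN hXP
      by_cases htop : (((Pb : Subgroup (G ⧸ H)) ⊔ X).comap f) = ⊤
      · right
        have h1 : (Pb : Subgroup (G ⧸ H)) ⊔ X = ⊤ :=
          comap_injective hfs (htop.trans (comap_top f).symm)
        refine le_antisymm hXN fun m hm => ?_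
        have hm' : m ∈ (((Pb : Subgroup (G ⧸ H)) ⊔ X : Subgroup (G ⧸ H)) : Set (G ⧸ H)) := by
          rw [h1]; exact mem_top m
        rw [coe_mul_of_left_le_normalizer_right _ _ hXP] at hm'
        obtain ⟨a, ha, x, hx, rfl⟩ := hm'
        have haN : a ∈ N := by simpa using mul_mem hm (inv_mem (hXN hx))
        have ha1 : a ∈ ((Pb : Subgroup (G ⧸ H)) ⊓ N) := ⟨ha, haN⟩
        rw [Thompson.inf_eq_bot_of_isPGroup_of_coprime Pb.2 hNp, mem_bot] at ha1
        simpa [ha1] using hx
      · left
        have h2 := hmaxP _ (fun x hx => mem_comap.mpr (mem_sup_left (S := (Pb : Subgroup (G ⧸ H))) ⟨x, hx, rfl⟩)) htop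
        have h3 : X ≤ (Pb : Subgroup (G ⧸ H)) := by
          intro x hx
          obtain ⟨y, rfl⟩ := hfs x
          exact ⟨y, h2.le (mem_comap.mpr (mem_sup_right hx)), rfl⟩
        exact le_bot_iff.mp ((le_inf h3 hXN).trans
          (Thompson.inf_eq_bot_of_isPGroup_of_coprime Pb.2 hNp).le)
    -- `N` is abelian
    have hNab : ⁅N, N⁆ = ⊥ := by
      obtain ⟨q, hq, hqN⟩ := Nat.exists_prime_and_dvd ((one_lt_card_iff_ne_bot _).mpr hNb).ne'
      have : Fact q.Prime := ⟨hq⟩
      have hsolv : Group.IsSolvable (Pb : Subgroup (G ⧸ H)) :=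
        Coprime.isSolvable_of_isNilpotent' Pb.2.isNilpotent
      have hcop' : (Nat.card (Pb : Subgroup (G ⧸ H))).Coprime (Nat.card N) := by
        obtain ⟨a, ha⟩ := IsPGroup.iff_card.mp Pb.2
        rw [ha]; exact (hNp.pow_right a).symm
      have hPNn : (Pb : Subgroup (G ⧸ H)) ≤ normalizer (N : Set (G ⧸ H)) := by
        rw [normalizer_eq_top_iff.mpr (inferInstance : N.Normal)]; exact le_top
      obtain ⟨Q, hQ'⟩ := Coprime.exists_invariant_sylow (Pb : Subgroup (G ⧸ H)) N hPNn hcop'
        (Or.inl hsolv) q
      rcases hirr _ (map_subtype_le _) hQ' with hb | htopQ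
      · exfalso
        have := (Q.ne_bot_of_dvd_card hqN)
        exact this ((map_eq_bot_iff_of_injective _ N.subtype_injective).mp hb)
      have hNnil : Group.IsNilpotent N := by
        have : (Q : Subgroup N) = ⊤ :=
          map_injective N.subtype_injective (htopQ.trans
            (by rw [← MonoidHom.range_eq_map, range_subtype]))
        exact (Q.2.of_equiv ((MulEquiv.subgroupCongr this).trans topEquiv)).isNilpotent
      rcases hirr ⁅N, N⁆ (commutator_le_self N) (by
        rw [normalizer_eq_top_iff.mpr (inferInstance : (⁅N, N⁆ : Subgroup (G ⧸ H)).Normal)]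
        exact le_top) with h | h
      · exact h
      · exfalso
        exact hNb (Coprime.eq_bot_of_le_commutator N hNnil le_rfl h.ge)
    -- assemble
    refine hfinal G P H (N.comap f) hP
      { not_complement := hG
        eq_pCore := hcore
        ne_bot := hHb
        le_sylow := hHP
        centralizer_le := hCH
        normal := inferInstance
        le_normal := fun x hx => mem_comap.mpr (by
          rw [hf, QuotientGroup.mk'_apply, (QuotientGroup.eq_one_iff x).mpr hx]; exact one_mem _)
        not_le := fun hle => hNb ((Subgroup.eq_bot_iff_forall _).mpr fun x hx => by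
          obtain ⟨y, rfl⟩ := hfs x
          exact (QuotientGroup.eq_one_iff y).mpr (hle hx))
        comm_mem := fun x hx y hy => by
          rw [← QuotientGroup.eq_one_iff, ← QuotientGroup.mk'_apply, map_commutatorElement,
            ← mem_bot, ← hNab]
          exact commutator_mem_commutator hx hy
        coprime := by
          rw [Thompson.relIndex_eq_card_map_mk', map_comap_eq_self_of_surjective hfs]
          exact hNp
        sup_eq_top := by
          refine eq_top_iff.mpr fun x _ => ?_
          have hx := hPN' ▸ mem_top (f x)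
          obtain ⟨a, ha, b, hb, hab⟩ := mem_sup_of_normal_right.mp hx
          obtain ⟨y, hy, rfl⟩ := ha
          have hb' : y⁻¹ * x ∈ N.comap f := by
            rw [mem_comap, map_mul, map_inv, ← hab, inv_mul_cancel_left]; exact hb
          simpa using mul_mem_sup hy hb'
        maximal := hmaxP }

end Cfsg.Agent.PComplement
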