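import Cfsg.Agent.Lib.PGroup.Commutator
import Cfsg.Agent.Lib.Thompson.Replacement
import Mathlib.GroupTheory.Sylow

/-!
# Glauberman's replacement theorem, elementary abelian version
-/

set_option autoImplicit false

open Subgroup
open scoped commutatorElement

namespace Cfsg.Agent.PComplement

variable {G : Type*} [Group G] [Finite G] {p : ℕ} [hp : Fact p.Prime]

omit [Finite G] hp in
theorem comm_inv_left_of_commute {a y : G} (h : Commute ⁅a, y⁆ a) : ⁅a⁻¹, y⁆ = ⁅a, y⁆⁻¹ := by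
  rw [commutatorElement_inv_left, ← commutatorElement_inv a y, mul_assoc, (h.inv_left).eq,
    inv_mul_cancel_left]

omit [Finite G] hp in
theorem comm_inv_right_of_commute {x a : G} (h : Commute ⁅x, a⁆ a) : ⁅x, a⁻¹⁆ = ⁅x, a⁆⁻¹ := by
  rw [commutatorElement_inv_right, ← commutatorElement_inv x a, mul_assoc, (h.inv_left).eq,
    inv_mul_cancel_left]

/-- Glauberman replacement for elementary abelian subgroups of largest order: `p` odd, `B` of
class at most two with `⁅B, B⁆` centralizing `A`. -/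
theorem replacement_classTwo (hp2 : p ≠ 2) {P A B : Subgroup G} (hP : IsPGroup p P)
    (hA : Thompson.IsMaxEAIn p A P) (hBP : B ≤ P) (hPB : P ≤ normalizer (B : Set G))
    (hBB : ∀ z ∈ ⁅B, B⁆, ∀ x ∈ B, Commute z x) (hBA : ∀ z ∈ ⁅B, B⁆, ∀ a ∈ A, Commute z a)
    (hnot : ¬ B ≤ normalizer (A : Set G)) :
    ∃ A' : Subgroup G, Thompson.IsMaxEAIn p A' P ∧ A ⊓ B < A' ⊓ B ∧
      A' ≤ normalizer (A : Set G) := by
  obtain ⟨hAP, ⟨hAc, hAp⟩, hAmax⟩ := hA
  have hcA : ∀ a ∈ A, ∀ a' ∈ A, Commute a a' := fun a ha a' ha' =>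
    congrArg Subtype.val (hAc.is_comm.comm (⟨a, ha⟩ : A) ⟨a', ha'⟩)
  -- an element of `B` normalizing `N = N_P(A)` but not `A`
  set N : Subgroup G := P ⊓ normalizer (A : Set G) with hN
  set M : Subgroup G := N ⊔ B with hM
  have hMP : M ≤ P := sup_le inf_le_left hBP
  have hprop : N.subgroupOf M < ⊤ := lt_top_iff_ne_top.mpr fun he =>
    hnot ((le_sup_right.trans (subgroupOf_eq_top.mp he)).trans inf_le_right)
  have := (hP.to_le hMP).isNilpotent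
  obtain ⟨x, hx, hxN⟩ := SetLike.exists_of_lt (Group.normalizerCondition_of_isNilpotent _ hprop)
  have hxn : (x : G) ∈ normalizer (N : Set G) := by
    rw [mem_normalizer_iff]
    intro y
    constructor
    · intro hy
      exact (mem_normalizer_iff.mp hx ⟨y, mem_sup_left hy⟩).mp hy
    · intro hy
      have hyM : y ∈ M := by
        have := mul_mem (mul_mem (inv_mem x.2) (mem_sup_left (T := B) hy)) x.2
        simpa [mul_assoc] using this
      exact (mem_normalizer_iff.mp hx ⟨y, hyM⟩).mpr hy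
  have hxM : (x : G) ∈ ((N ⊔ B : Subgroup G) : Set G) := x.2
  rw [coe_mul_of_left_le_normalizer_right _ _ (inf_le_left.trans hPB)] at hxM
  obtain ⟨m, hm, b, hb, hmb⟩ := hxM
  have hxb : b = m⁻¹ * (x : G) := by rw [← hmb]; group
  have hbn : b ∈ normalizer (N : Set G) := by
    rw [hxb]; exact mul_mem (inv_mem (le_normalizer hm)) hxn
  have hbA : b ∉ normalizer (A : Set G) := fun h => hxN (show (x : G) ∈ N by
    rw [← hmb]
    exact mul_mem hm ⟨hBP hb, h⟩)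
  have hbP : b ∈ P := hBP hb
  -- the conjugate `A₂ = b A b⁻¹`
  set A₂ : Subgroup G := A.map (MulAut.conj b).toMonoidHom with hA₂
  have hAN : A ≤ N := le_inf hAP le_normalizer
  have hA₂N : A₂ ≤ N := by
    rintro _ ⟨a, ha, rfl⟩
    exact (mem_normalizer_iff.mp hbn a).mp (hAN ha)
  have hA₂mem : ∀ a ∈ A, b * a * b⁻¹ ∈ A₂ := fun a ha => ⟨a, ha, rfl⟩
  have hcA₂ : ∀ x ∈ A₂, ∀ y ∈ A₂, Commute x y := by
    rintro _ ⟨a, ha, rfl⟩ _ ⟨a', ha', rfl⟩
    exact (hcA a ha a' ha').map (MulAut.conj b).toMonoidHom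
  have hpA₂ : ∀ x ∈ A₂, x ^ p = 1 := by
    rintro _ ⟨a, ha, rfl⟩
    rw [← map_pow, hAp a ha, map_one]
  have hnorm₂ : ∀ a ∈ A, ∀ y ∈ A₂, a * y * a⁻¹ ∈ A₂ := by
    rintro a ha _ ⟨a', ha', rfl⟩
    have hm' : b⁻¹ * a * b ∈ N := by
      have := (mem_normalizer_iff.mp (inv_mem hbn) a).mp (hAN ha)
      simpa using this
    refine ⟨(b⁻¹ * a * b) * a' * (b⁻¹ * a * b)⁻¹, (mem_normalizer_iff.mp hm'.2 a').mp ha', ?_⟩
    show b * _ * b⁻¹ = a * (b * a' * b⁻¹) * a⁻¹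
    group
  set Z : Subgroup G := A ⊓ A₂ with hZ
  have hZc : ∀ z ∈ Z, ∀ a ∈ A, Commute z a := fun z hz a ha => hcA z hz.1 a ha
  have hZc₂ : ∀ z ∈ Z, ∀ y ∈ A₂, Commute z y := fun z hz y hy => hcA₂ z hz.2 y hy
  have hcomm : ∀ y ∈ A₂, ∀ a ∈ A, ⁅y, a⁆ ∈ Z := fun y hy a ha => by
    refine ⟨?_, ?_⟩
    · exact A.mul_mem ((mem_normalizer_iff.mp (hA₂N hy).2 a).mp ha) (A.inv_mem ha)
    · rw [commutatorElement_def, show y * a * y⁻¹ * a⁻¹ = y * (a * y⁻¹ * a⁻¹) by group]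
      exact A₂.mul_mem hy (hnorm₂ a ha _ (A₂.inv_mem hy))
  -- the symmetric pairing `s a a' = ⁅⁅b, a⁆, a'⁆`
  have hu : ∀ a : G, b * a * b⁻¹ = ⁅b, a⁆ * a := fun a => PGroup.conj_eq_comm_mul b a
  have huB : ∀ a ∈ A, ⁅b, a⁆ ∈ B := fun a ha => by
    rw [commutatorElement_def, show b * a * b⁻¹ * a⁻¹ = b * (a * b⁻¹ * a⁻¹) by group]
    exact mul_mem hb ((mem_normalizer_iff.mp (hPB (hAP ha)) _).mp (inv_mem hb))
  have hs : ∀ a ∈ A, ∀ a' ∈ A, ⁅⁅b, a⁆, a'⁆ = ⁅b * a * b⁻¹, a'⁆ := by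
    intro a ha a' ha'
    rw [hu a, commutatorElement_mul_left_eq_conj_mul ⁅b, a⁆ a a',
      commutatorElement_eq_one_iff_commute.mpr (hcA a ha a' ha'), mul_one, mul_inv_cancel, one_mul]
  have hsZ : ∀ a ∈ A, ∀ a' ∈ A, ⁅⁅b, a⁆, a'⁆ ∈ Z := fun a ha a' ha' =>
    hs a ha a' ha' ▸ hcomm _ (hA₂mem a ha) a' ha'
  have hZu : ∀ z ∈ Z, ∀ a ∈ A, Commute z ⁅b, a⁆ := fun z hz a ha => by
    rw [show ⁅b, a⁆ = b * a * b⁻¹ * a⁻¹ from commutatorElement_def _ _]
    exact (hZc₂ z hz _ (hA₂mem a ha)).mul_right (hZc z hz a ha).inv_right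
  have hc_eq : ∀ a ∈ A, ∀ a' ∈ A,
      ⁅⁅b, a⁆, ⁅b, a'⁆⁆ = ⁅⁅b, a'⁆, a⁆ * ⁅⁅b, a⁆, a'⁆⁻¹ := by
    intro a ha a' ha'
    rw [hs a ha a' ha', hs a' ha' a ha,
      show ⁅b, a⁆ = b * a * b⁻¹ * a⁻¹ from commutatorElement_def _ _,
      show ⁅b, a'⁆ = b * a' * b⁻¹ * a'⁻¹ from commutatorElement_def _ _]
    have hx : b * a * b⁻¹ ∈ A₂ := hA₂mem a ha
    have hy : b * a' * b⁻¹ ∈ A₂ := hA₂mem a' ha'
    generalize b * a * b⁻¹ = X at hx ⊢
    generalize b * a' * b⁻¹ = Y at hy ⊢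
    have h1 : ⁅a⁻¹, Y * a'⁻¹⁆ = ⁅Y, a⁆ := by
      rw [commutatorElement_mul_right_eq_mul_conj,
        commutatorElement_eq_one_iff_commute.mpr (hcA _ (inv_mem ha) _ (inv_mem ha')),
        mul_one, mul_inv_cancel_right, comm_inv_left_of_commute, commutatorElement_inv]
      rw [← commutatorElement_inv]
      exact (hZc _ (hcomm Y hy a ha) a ha).inv_left
    have h2 : ⁅X, Y * a'⁻¹⁆ = ⁅X, a'⁆⁻¹ := by
      rw [commutatorElement_mul_right_eq_mul_conj,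
        commutatorElement_eq_one_iff_commute.mpr (hcA₂ X hx Y hy), one_mul,
        comm_inv_right_of_commute (hZc _ (hcomm X hx a' ha') a' ha'),
        ← (hZc₂ _ (inv_mem (hcomm X hx a' ha')) Y hy).eq, mul_inv_cancel_right]
    rw [commutatorElement_mul_left_eq_conj_mul, h1, h2,
      ← (hZc₂ _ (hcomm Y hy a ha) X hx).eq, mul_inv_cancel_right]
  have hbs : ∀ a ∈ A, ∀ a' ∈ A, ⁅b, ⁅⁅b, a⁆, a'⁆⁆ = ⁅⁅b, a⁆, ⁅b, a'⁆⁆ := by
    intro a ha a' ha'
    set u := ⁅b, a⁆ with hu_def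
    set u' := ⁅b, a'⁆ with hu'_def
    have hz : ⁅b, u⁆ ∈ ⁅B, B⁆ := commutator_mem_commutator hb (huB a ha)
    have h1 : b * ⁅u, a'⁆ * b⁻¹ = ⁅u, u'⁆ * ⁅u, a'⁆ := by
      calc b * ⁅u, a'⁆ * b⁻¹ = ⁅b * u * b⁻¹, b * a' * b⁻¹⁆ := by rw [conjugate_commutatorElement]
        _ = ⁅⁅b, u⁆ * u, u' * a'⁆ := by rw [hu u, hu a']
        _ = ⁅u, u' * a'⁆ := by
          have hzu : Commute ⁅b, u⁆ (u' * a') :=
            (hBB _ hz _ (huB a' ha')).mul_right (hBA _ hz a' ha')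
          have hzu2 : Commute ⁅b, u⁆ ⁅u, u' * a'⁆ := by
            rw [commutatorElement_def]
            exact (((hBB _ hz _ (huB a ha)).mul_right hzu).mul_right
              (hBB _ hz _ (huB a ha)).inv_right).mul_right hzu.inv_right
          rw [commutatorElement_mul_left_eq_conj_mul, hzu2.eq, mul_inv_cancel_right,
            commutatorElement_eq_one_iff_commute.mpr hzu, mul_one]
        _ = ⁅u, u'⁆ * ⁅u, a'⁆ := by
          rw [commutatorElement_mul_right_eq_mul_conj, mul_assoc ⁅u, u'⁆,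
            ← (hZu _ (hsZ a ha a' ha') a' ha').eq]
          simp only [← hu_def, ← hu'_def, mul_assoc, mul_inv_cancel, mul_one]
    calc ⁅b, ⁅u, a'⁆⁆ = b * ⁅u, a'⁆ * b⁻¹ * ⁅u, a'⁆⁻¹ := commutatorElement_def _ _
      _ = ⁅u, u'⁆ := by rw [h1, mul_inv_cancel_right]
  have hcone : ∀ a ∈ A, ∀ a' ∈ A, ⁅⁅b, a⁆, ⁅b, a'⁆⁆ = 1 := by
    intro a ha a' ha'
    set c := ⁅⁅b, a⁆, ⁅b, a'⁆⁆ with hc
    have hcB : c ∈ ⁅B, B⁆ := commutator_mem_commutator (huB a ha) (huB a' ha')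
    have h1 : ⁅⁅b, a'⁆, a⁆ = c * ⁅⁅b, a⁆, a'⁆ := by
      rw [hc, hc_eq a ha a' ha', inv_mul_cancel_right]
    have h2 : ⁅b, c * ⁅⁅b, a⁆, a'⁆⁆ = c := by
      rw [commutatorElement_mul_right_eq_mul_conj,
        commutatorElement_eq_one_iff_commute.mpr (hBB c hcB b hb).symm, one_mul,
        hbs a ha a' ha', ← hc, mul_inv_cancel_right]
    rw [← h1, hbs a' ha' a ha, ← commutatorElement_inv ⁅b, a⁆ ⁅b, a'⁆, ← hc] at h2
    have hcp : c ^ p = 1 := by
      have h3 : c ∈ A := by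
        rw [hc, hc_eq a ha a' ha']
        exact mul_mem (hsZ a' ha' a ha).1 (inv_mem (hsZ a ha a' ha').1)
      exact hAp c h3
    have hc2 : c ^ 2 = 1 := by rw [pow_two]; exact inv_eq_iff_mul_eq_one.mp h2
    have h4 := pow_gcd_eq_one.mpr ⟨hcp, hc2⟩
    rwa [(Nat.coprime_primes hp.out Nat.prime_two).mpr hp2, pow_one] at h4
  have hsym : ∀ a ∈ A, ∀ a' ∈ A, ⁅⁅b, a'⁆, a⁆ = ⁅⁅b, a⁆, a'⁆ := by
    intro a ha a' ha'
    have := hc_eq a ha a' ha'
    rw [hcone a ha a' ha'] at this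
    exact mul_inv_eq_one.mp this.symm
  -- the replacement
  set gens : Set G := ((Z : Set G) ∪ (A ⊓ B : Subgroup G)) ∪ {u | ∃ a ∈ A, u = ⁅b, a⁆} with hgens
  set A' : Subgroup G := closure gens with hA'
  have hpT : ∀ a ∈ A, ⁅b, a⁆ ^ p = 1 := by
    intro a ha
    have hx : b * a * b⁻¹ ∈ A₂ := hA₂mem a ha
    have hd := hcomm _ hx a ha
    have hd' : ⁅a⁻¹, b * a * b⁻¹⁆ ∈ Z := by
      rw [comm_inv_left_of_commute, commutatorElement_inv]
      · exact hd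
      · rw [← commutatorElement_inv]; exact (hZc _ hd a ha).inv_left
    rw [show ⁅b, a⁆ = b * a * b⁻¹ * a⁻¹ from commutatorElement_def _ _,
      PGroup.mul_pow_of_commute_commutator (hZc₂ _ hd' _ hx) (hZc _ hd' _ (inv_mem ha)),
      hpA₂ _ hx, inv_pow, hAp a ha, inv_one, one_mul, one_mul]
    obtain ⟨k, hk⟩ := hp.out.dvd_choose_self two_ne_zero
      (lt_of_le_of_ne hp.out.two_le (Ne.symm hp2))
    rw [hk, pow_mul, hAp _ hd'.1, one_pow]
  have hABu : ∀ x ∈ A ⊓ B, ∀ a ∈ A, Commute ⁅b, a⁆ x := by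
    intro x hx a ha
    rw [← commutatorElement_eq_one_iff_commute, ← hsym a ha x hx.1,
      commutatorElement_eq_one_iff_commute]
    exact hBA _ (commutator_mem_commutator hb hx.2) a ha
  have hA'EA : IsElementaryAbelian p A' := by
    refine Thompson.isElementaryAbelian_closure ?_ ?_
    · rintro x ((hx | hx) | ⟨a, ha, rfl⟩) y ((hy | hy) | ⟨a', ha', rfl⟩)
      · exact (hZc x hx y hy.1).eq
      · exact (hZc x hx y hy.1).eq
      · exact (hZu x hx a' ha').eq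
      · exact (hZc y hy x hx.1).symm.eq
      · exact (hcA x hx.1 y hy.1).eq
      · exact (hABu x hx a' ha').symm.eq
      · exact (hZu y hy a ha).symm.eq
      · exact (hABu y hy a ha).eq
      · exact (commutatorElement_eq_one_iff_commute.mp (hcone a ha a' ha')).eq
    · rintro x ((hx | hx) | ⟨a, ha, rfl⟩)
      · exact hAp x hx.1
      · exact hAp x hx.1
      · exact hpT a ha
  have hA'N : A' ≤ N := (closure_le _).mpr (by
    rintro x ((hx | hx) | ⟨a, ha, rfl⟩)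
    · exact hAN hx.1
    · exact hAN hx.1
    · show ⁅b, a⁆ ∈ N
      rw [commutatorElement_def]
      exact mul_mem (hA₂N (hA₂mem a ha)) (inv_mem (hAN ha)))
  have hsup : A ⊔ A' = A ⊔ A₂ := by
    refine le_antisymm (sup_le le_sup_left ((closure_le _).mpr ?_)) (sup_le le_sup_left ?_)
    · rintro x ((hx | hx) | ⟨a, ha, rfl⟩)
      · exact mem_sup_left hx.1
      · exact mem_sup_left hx.1
      · show ⁅b, a⁆ ∈ A ⊔ A₂
        rw [commutatorElement_def]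
        exact mul_mem (mem_sup_right (hA₂mem a ha)) (mem_sup_left (inv_mem ha))
    · rintro _ ⟨a, ha, rfl⟩
      show b * a * b⁻¹ ∈ A ⊔ A'
      rw [hu a]
      exact mul_mem (mem_sup_right (subset_closure (Or.inr ⟨a, ha, rfl⟩))) (mem_sup_left ha)
  have e1 := Thompson.card_sup_mul_card_inf (H := A) (K := A') (hA'N.trans inf_le_right)
  have e2 := Thompson.card_sup_mul_card_inf (H := A) (K := A₂) (hA₂N.trans inf_le_right)
  have hA₂card : Nat.card A₂ = Nat.card A := card_map_of_injective (MulAut.conj b).injective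
  have hZle : Nat.card Z ≤ Nat.card ↥(A ⊓ A') := card_le_of_le (le_inf inf_le_left
    fun z hz => subset_closure (Or.inl (Or.inl hz)))
  have hge : Nat.card A ≤ Nat.card A' := by
    refine Nat.le_of_mul_le_mul_left ?_ (Nat.card_pos (α := A))
    rw [← e1, hsup]
    calc Nat.card A * Nat.card A = Nat.card ↥(A ⊔ A₂) * Nat.card Z := by
          rw [hZ, e2, hA₂card]
      _ ≤ Nat.card ↥(A ⊔ A₂) * Nat.card ↥(A ⊓ A') := Nat.mul_le_mul_left _ hZle
  refine ⟨A', ⟨hA'N.trans inf_le_left, hA'EA, fun C hC hCe => (hAmax C hC hCe).trans hge⟩,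
    ⟨fun x hx => ⟨subset_closure (Or.inl (Or.inr hx)), hx.2⟩, fun hle => hbA ?_⟩,
    hA'N.trans inf_le_right⟩
  refine mem_normalizer_iff_map_conj_eq.mpr (eq_of_le_of_card_ge ?_ hA₂card.ge)
  rintro _ ⟨a, ha, rfl⟩
  show b * a * b⁻¹ ∈ A
  rw [hu a]
  exact mul_mem (hle ⟨subset_closure (Or.inr ⟨a, ha, rfl⟩), huB a ha⟩).1 ha

end Cfsg.Agent.PComplement
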