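import Cfsg.Agent.Lib.PComplement.Stability
import Cfsg.Agent.Lib.PComplement.Replacement

/-!
# The Glauberman-Thompson normal `p`-complement theorem
-/

set_option autoImplicit false

open Subgroup
open scoped commutatorElement

namespace Cfsg.Agent.PComplement

universe u

variable {p : ℕ} [hp : Fact p.Prime]

/-- In a reduced group `Z(J(P))` is normal. -/
theorem IsReduced.centerThompsonOf_normal (hp2 : p ≠ 2) {G : Type u} [Group G] [Finite G]
    {P : Sylow p G} {V K : Subgroup G} (h : IsReduced p (P : Subgroup G) V K) :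
    (centerThompsonOf p (P : Subgroup G)).Normal := by
  set J := thompsonSubgroupOf p (P : Subgroup G) with hJ
  set Z : Subgroup G := centerThompsonOf p (P : Subgroup G) with hZ
  have hVn : V.Normal := h.eq_pCore ▸ inferInstance
  have hVp : IsPGroup p V := P.2.to_le h.le_sylow
  have hZJ : ∀ z ∈ Z, ∀ x ∈ J, Commute z x := fun z hz x hx =>
    (mem_centralizer_iff.mp hz.2 x hx).symm
  have hPJ : (P : Subgroup G) ≤ normalizer (J : Set G) :=
    le_normalizer.trans (Thompson.normalizer_le_normalizer_thompsonSubgroupOf _)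
  have hPZ : (P : Subgroup G) ≤ normalizer (Z : Set G) := by
    rw [hZ, centerThompsonOf, ← hJ]
    exact Coprime.le_normalizer_inf hPJ (Coprime.le_normalizer_centralizer hPJ)
  have hZP : Z ≤ (P : Subgroup G) := fun z hz => Thompson.thompsonSubgroupOf_le _ hz.1
  have hJV : ¬ J ≤ V ∨ Z.Normal := by
    by_cases hle : J ≤ V
    · right
      have hJn : J.Normal := by
        rw [← normalizer_eq_top_iff, hJ, ← Thompson.thompsonSubgroupOf_eq_of_le h.le_sylow hle,
          ← top_le_iff, ← normalizer_eq_top_iff.mpr hVn]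
        exact Thompson.normalizer_le_normalizer_thompsonSubgroupOf V
      rw [hZ, centerThompsonOf, ← hJ]
      infer_instance
    · exact Or.inl hle
  rcases hJV with hJV | hJV
  swap
  · exact hJV
  -- a subgroup of `P` normalized by `P` and all `p'`-elements is normal
  have hnormal : ∀ X : Subgroup G, (P : Subgroup G) ≤ normalizer (X : Set G) →
      (∀ g : G, (orderOf g).Coprime p → g ∈ normalizer (X : Set G)) → X.Normal := by
    intro X hPX hg
    rw [← normalizer_eq_top_iff, ← top_le_iff, ← Transfer.sylow_sup_eq_top_of_coprime_mem P hg]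
    exact sup_le hPX le_rfl
  -- `Z ≤ V`
  have hZV : Z ≤ V := by
    intro z hz
    refine h.mem_of_quadratic hp2 le_rfl h.centralizer_le (hZP hz) fun v hv => ?_
    have h1 : ⁅v, z⁆ ∈ Z := by
      rw [commutatorElement_def]
      exact mul_mem ((mem_normalizer_iff.mp (hPZ (h.le_sylow hv)) z).mp hz) (inv_mem hz)
    exact commutatorElement_eq_one_iff_commute.mpr (hZJ _ h1 z hz.1)
  suffices key : ∀ (N : ℕ) (B : Subgroup G) [B.Normal], Nat.card B = N → B ≤ V → (Z ⊓ B).Normal by
    have := key _ V rfl le_rfl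
    rwa [inf_eq_left.mpr hZV] at this
  intro N
  induction N using Nat.strong_induction_on with
  | _ N ih =>
    intro B hBn hN hBV
    have hlt : ∀ B₁ : Subgroup G, B₁ < B → Nat.card B₁ < N := fun B₁ hB₁ =>
      hN ▸ lt_of_le_of_ne (card_le_of_le hB₁.le)
        fun he => hB₁.ne (eq_of_le_of_card_ge hB₁.le he.ge)
    have hBp : IsPGroup p B := hVp.to_le hBV
    set X := Z ⊓ B with hX
    have hPX : (P : Subgroup G) ≤ normalizer (X : Set G) :=
      Coprime.le_normalizer_inf hPZ (by rw [normalizer_eq_top_iff.mpr hBn]; exact le_top)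
    by_cases hB : B = ⊥
    · rw [hX, hB, inf_bot_eq]; infer_instance
    -- the normal closure of `X` is `B`
    set B₁ := normalClosure (X : Set G) with hB₁
    have hB₁le : B₁ ≤ B := normalClosure_le_normal inf_le_right
    rcases lt_or_eq_of_le hB₁le with hlt₁ | heq₁
    · have h1 := ih _ (hlt B₁ hlt₁) B₁ rfl (hB₁le.trans hBV)
      rwa [show Z ⊓ B₁ = X from le_antisymm (inf_le_inf_left Z hB₁le)
        (le_inf inf_le_left le_normalClosure)] at h1
    -- `B' ≤ Z`
    have hB'lt : ⁅B, B⁆ < B := lt_of_le_of_ne (commutator_le_self B) fun he =>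
      hB (Coprime.eq_bot_of_le_commutator B hBp.isNilpotent le_rfl he.ge)
    have hN' : (Z ⊓ ⁅B, B⁆).Normal := ih _ (hlt _ hB'lt) _ rfl (hB'lt.le.trans hBV)
    set f := QuotientGroup.mk' (Z ⊓ ⁅B, B⁆) with hf
    have hB'Z : ⁅B, B⁆ ≤ Z := by
      have hfn : (B.map f).Normal := hBn.map f (QuotientGroup.mk'_surjective _)
      have h1 : B ≤ (centralizer (B.map f : Set (G ⧸ Z ⊓ ⁅B, B⁆))).comap f := by
        conv_lhs => rw [← heq₁]
        refine normalClosure_le_normal fun x hx => ?_
        show f x ∈ centralizer _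
        rw [mem_centralizer_iff]
        rintro _ ⟨b, hb, rfl⟩
        refine ((commutatorElement_eq_one_iff_mul_comm (g₁ := f x) (g₂ := f b)).mp ?_).symm
        rw [← map_commutatorElement]
        refine (QuotientGroup.eq_one_iff _).mpr ⟨?_, commutator_mem_commutator hx.2 hb⟩
        rw [commutatorElement_def, show x * b * x⁻¹ * b⁻¹ = x * (b * x⁻¹ * b⁻¹) by group]
        exact mul_mem hx.1 ((mem_normalizer_iff.mp (hPZ (h.le_sylow (hBV hb))) _).mp (inv_mem hx.1))
      rw [commutator_le]
      intro x hx y hy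
      have h2 : f ⁅x, y⁆ = 1 := by
        rw [map_commutatorElement, commutatorElement_eq_one_iff_mul_comm]
        exact (mem_centralizer_iff.mp (h1 hx) _ (mem_map_of_mem f hy)).symm
      exact ((QuotientGroup.eq_one_iff _).mp h2).1
    have hBB : ∀ z ∈ ⁅B, B⁆, ∀ x ∈ B, Commute z x := by
      have h1 : B ≤ centralizer ((⁅B, B⁆ : Subgroup G) : Set G) := by
        conv_lhs => rw [← heq₁]
        refine normalClosure_le_normal fun x hx => ?_
        exact mem_centralizer_iff.mpr fun z hz => (hZJ z (hB'Z hz) x hx.1.1).eq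
      exact fun z hz x hx => mem_centralizer_iff.mp (h1 hx) z hz
    -- we may assume that the centralizer of `B` is small
    rcases h.le_or_coprime_mem (centralizer (B : Set G)) with hCB | hCB
    swap
    · refine hnormal X hPX fun g hg => ?_
      exact centralizer_le_normalizer _ (Subgroup.centralizer_le (inf_le_right : X ≤ B) (hCB g hg))
    -- the best choice of `A`
    obtain ⟨A, ⟨hA, hAV⟩, hAbest⟩ := Set.exists_max_image
      {A : Subgroup G | Thompson.IsMaxEAIn p A (P : Subgroup G) ∧ ¬ A ≤ V}
      (fun A => Nat.card ↥(A ⊓ B)) (Set.toFinite _) (by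
        by_contra hall
        apply hJV
        rw [hJ, Thompson.thompsonSubgroupOf_eq]
        refine sSup_le fun A hA => ?_
        by_contra hAV
        exact hall ⟨A, hA, hAV⟩)
    have hAJ : A ≤ J := Thompson.le_thompsonSubgroupOf hA
    have hcA : ∀ a ∈ A, ∀ a' ∈ A, Commute a a' := fun a ha a' ha' =>
      congrArg Subtype.val (hA.2.1.1.is_comm.comm (⟨a, ha⟩ : A) ⟨a', ha'⟩)
    by_cases hnorm : B ≤ normalizer (A : Set G)
    · exfalso
      refine hAV fun a ha => h.mem_of_quadratic hp2 hBV hCB (hA.1 ha) fun b hb => ?_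
      have h1 : ⁅b, a⁆ ∈ A := by
        rw [commutatorElement_def]
        exact mul_mem ((mem_normalizer_iff.mp (hnorm hb) a).mp ha) (inv_mem ha)
      exact commutatorElement_eq_one_iff_commute.mpr (hcA _ h1 a ha)
    obtain ⟨A', hA', hlt', hA'N⟩ := replacement_classTwo hp2 P.2 hA (hBV.trans h.le_sylow)
      (by rw [normalizer_eq_top_iff.mpr hBn]; exact le_top) hBB
      (fun z hz a ha => hZJ z (hB'Z hz) a (hAJ ha)) hnorm
    have hA'V : A' ≤ V := by
      by_contra hc
      have h1 := hAbest A' ⟨hA', hc⟩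
      exact hlt'.ne (eq_of_le_of_card_ge hlt'.le h1)
    -- `B` centralizes `A'`
    have hJVJ : thompsonSubgroupOf p V ≤ J := by
      rw [Thompson.thompsonSubgroupOf_eq]
      refine sSup_le fun C hC => Thompson.le_thompsonSubgroupOf ⟨hC.1.trans h.le_sylow, hC.2.1, ?_⟩
      intro D hD hDe
      exact (hA'.2.2 D hD hDe).trans (hC.2.2 A' hA'V hA'.2.1)
    have hJVn : (thompsonSubgroupOf p V).Normal := by
      rw [← normalizer_eq_top_iff, ← top_le_iff, ← normalizer_eq_top_iff.mpr hVn]
      exact Thompson.normalizer_le_normalizer_thompsonSubgroupOf V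
    have hBA' : ∀ b ∈ B, ∀ a ∈ A', Commute b a := by
      have h1 : B ≤ centralizer (thompsonSubgroupOf p V : Set G) := by
        conv_lhs => rw [← heq₁]
        exact normalClosure_le_normal fun x hx =>
          mem_centralizer_iff.mpr fun y hy => (hZJ x hx.1 y (hJVJ hy)).eq.symm
      exact fun b hb a ha => (mem_centralizer_iff.mp (h1 hb) a
        (Thompson.le_thompsonSubgroupOf (hA'.of_le h.le_sylow hA'V) ha)).symm
    -- the elements of order `p` of `B`
    have hB2 : ∀ x ∈ B, x ^ p = 1 → x ∈ A' := by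
      intro x hx hxp
      have hE : IsElementaryAbelian p (closure ((A' : Set G) ∪ {x})) := by
        refine Thompson.isElementaryAbelian_closure ?_ ?_
        · rintro u (hu | rfl) v (hv | rfl)
          · exact Thompson.elemAb_comm hA'.2.1.1 hu hv
          · exact (hBA' _ hx u hu).eq.symm
          · exact (hBA' _ hx v hv).eq
          · rfl
        · rintro u (hu | rfl)
          · exact hA'.2.1.2 u hu
          · exact hxp
      have hle : closure ((A' : Set G) ∪ {x}) ≤ (P : Subgroup G) := by
        rw [closure_le]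
        rintro u (hu | rfl)
        · exact hA'.1 hu
        · exact h.le_sylow (hBV hx)
      have h1 : A' = closure ((A' : Set G) ∪ {x}) :=
        eq_of_le_of_card_ge (fun u hu => subset_closure (Or.inl hu)) (hA'.2.2 _ hle hE)
      rw [h1]
      exact subset_closure (Or.inr rfl)
    have hcA' : ∀ a ∈ A', ∀ a' ∈ A', Commute a a' := fun a ha a' ha' =>
      Thompson.elemAb_comm hA'.2.1.1 ha ha'
    let B₂ : Subgroup G :=
      { carrier := {x | x ∈ B ∧ x ^ p = 1}
        one_mem' := ⟨one_mem _, one_pow _⟩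
        mul_mem' := fun {x y} hx hy => ⟨mul_mem hx.1 hy.1, by
          rw [(hcA' x (hB2 x hx.1 hx.2) y (hB2 y hy.1 hy.2)).mul_pow, hx.2, hy.2, one_mul]⟩
        inv_mem' := fun {x} hx => ⟨inv_mem hx.1, by rw [inv_pow, hx.2, inv_one]⟩ }
    have hB₂n : B₂.Normal := ⟨fun x hx g => ⟨hBn.conj_mem x hx.1 g, by
      rw [conj_pow, hx.2, mul_one, mul_inv_cancel]⟩⟩
    rcases h.le_or_coprime_mem (centralizer (B₂ : Set G)) with hCB₂ | hCB₂
    · exfalso
      refine hAV fun a ha => h.mem_of_quadratic hp2 (B := B₂) (fun x hx => hBV hx.1) hCB₂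
        (hA.1 ha) fun b hb => ?_
      have h1 : ⁅b, a⁆ ∈ A := by
        rw [commutatorElement_def]
        exact mul_mem ((mem_normalizer_iff.mp (hA'N (hB2 b hb.1 hb.2)) a).mp ha) (inv_mem ha)
      exact commutatorElement_eq_one_iff_commute.mpr (hcA _ h1 a ha)
    refine hnormal X hPX fun g hg => ?_
    suffices key : ∀ k : ℕ, ∀ z ∈ X, z ^ p ^ k = 1 → Commute g z by
      refine centralizer_le_normalizer _ (mem_centralizer_iff.mpr fun z hz => ?_)
      obtain ⟨k, hk⟩ := hBp ⟨z, hz.2⟩
      exact (key k z hz (congrArg Subtype.val hk)).eq.symm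
    intro k
    induction k with
    | zero =>
      intro z _ hz
      rw [pow_zero, pow_one] at hz
      rw [hz]
      exact Commute.one_right g
    | succ k ihk =>
      intro z hz hzk
      have hzp : Commute g (z ^ p) := ihk _ (pow_mem hz p) (by rw [← pow_mul, ← pow_succ', hzk])
      have hy : g * z * g⁻¹ ∈ B := hBn.conj_mem z hz.2 g
      have hc : ⁅z⁻¹, g * z * g⁻¹⁆ ∈ ⁅B, B⁆ := commutator_mem_commutator (inv_mem hz.2) hy
      have hpy : (g * z * g⁻¹) ^ p = z ^ p := by rw [conj_pow, hzp.eq, mul_inv_cancel_right]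
      have hcp : ⁅z⁻¹, g * z * g⁻¹⁆ ^ p = 1 := by
        rw [← PGroup.commutatorElement_pow_right (hBB _ hc _ hy), hpy,
          commutatorElement_eq_one_iff_commute]
        exact ((Commute.refl z).pow_right p).inv_left
      have hw : (g * z * g⁻¹ * z⁻¹) ^ p = 1 := by
        rw [PGroup.mul_pow_of_commute_commutator (hBB _ hc _ hy) (hBB _ hc _ (inv_mem hz.2)),
          hpy, inv_pow, mul_inv_cancel, one_mul]
        obtain ⟨l, hl⟩ := hp.out.dvd_choose_self two_ne_zero
          (lt_of_le_of_ne hp.out.two_le (Ne.symm hp2))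
        rw [hl, pow_mul, hcp, one_pow]
      exact commute_of_stabilizes (hBp.to_le (fun x (hx : x ∈ B₂) => hx.1)) hg
        ⟨mul_mem hy (inv_mem hz.2), hw⟩
        fun x hx => (mem_centralizer_iff.mp (hCB₂ g hg) x hx).symm

theorem centerThompsonOf_map {G H : Type u} [Group G] [Group H] (f : G →* H) (P : Subgroup G)
    (hf : Set.InjOn f P) :
    (centerThompsonOf p P).map f = centerThompsonOf p (P.map f) := by
  rw [centerThompsonOf, centerThompsonOf, ← Thompson.thompsonSubgroupOf_map f P hf]
  refine le_antisymm ?_ ?_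
  · rintro _ ⟨z, hz, rfl⟩
    refine ⟨mem_map_of_mem f hz.1, mem_centralizer_iff.mpr ?_⟩
    rintro _ ⟨x, hx, rfl⟩
    rw [← map_mul, ← map_mul, mem_centralizer_iff.mp hz.2 x hx]
  · rintro _ ⟨⟨z, hz, rfl⟩, hc⟩
    refine ⟨z, ⟨hz, mem_centralizer_iff.mpr fun x hx => ?_⟩, rfl⟩
    have hle := Thompson.thompsonSubgroupOf_le (p := p) P
    refine hf (mul_mem (hle hx) (hle hz)) (mul_mem (hle hz) (hle hx)) ?_
    rw [map_mul, map_mul]
    exact mem_centralizer_iff.mp hc _ (mem_map_of_mem f hx)

theorem normalizer_le_normalizer_centerThompsonOf {G : Type u} [Group G] (S : Subgroup G) :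
    normalizer (S : Set G) ≤ normalizer (centerThompsonOf p S : Set G) := by
  have h1 := Thompson.normalizer_le_normalizer_thompsonSubgroupOf (p := p) S
  exact Coprime.le_normalizer_inf h1 (Coprime.le_normalizer_centralizer h1)

theorem centerThompsonOf_ne_bot {G : Type u} [Group G] [Finite G] {S : Subgroup G}
    (hS : IsPGroup p S) (hb : S ≠ ⊥) : centerThompsonOf p S ≠ ⊥ := by
  have hJb := thompsonSubgroupOf_ne_bot hS hb
  have hJp : IsPGroup p (thompsonSubgroupOf p S) := hS.to_le (Thompson.thompsonSubgroupOf_le S)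
  have : Nontrivial (thompsonSubgroupOf p S) := (nontrivial_iff_ne_bot _).mpr hJb
  intro hb'
  apply hJp.bot_lt_center.ne'
  rw [Subgroup.eq_bot_iff_forall]
  intro x hx
  apply Subtype.ext
  rw [OneMemClass.coe_one, ← mem_bot, ← hb']
  exact ⟨x.2, mem_centralizer_iff.mpr fun y hy =>
    congrArg Subtype.val (mem_center_iff.mp hx ⟨y, hy⟩)⟩

/-- The Glauberman-Thompson normal `p`-complement theorem. -/
theorem glauberman_thompson (hp2 : p ≠ 2) {G : Type u} [Group G] [Finite G] (P : Sylow p G)
    (h1 : HasNormalPComplement p (normalizer (centerThompsonOf p (P : Subgroup G) : Set G))) :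
    HasNormalPComplement p G := by
  refine hasNormalPComplement_of_criterion (p := p)
    (fun G _ _ P => HasNormalPComplement p (normalizer (centerThompsonOf p P : Set G)))
    ?_ ?_ ?_ ?_ ?_ G P h1
  · intro G _ _ P M hPM hT
    refine hasNormalPComplement_of_map_le M.subtype M.subtype_injective ?_ hT
    refine (le_normalizer_map _).trans ?_
    rw [centerThompsonOf_map _ _ (fun _ _ _ _ h => M.subtype_injective h),
      map_subgroupOf_eq_of_le hPM]
  · intro G _ _ P H hHb hHP hyp _
    set S : Subgroup G := (P : Subgroup G) ⊓ normalizer (H : Set G) with hS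
    have hSM : S ≤ normalizer (H : Set G) := inf_le_right
    have hSp : IsPGroup p S := P.2.to_le inf_le_left
    have hSb : S ≠ ⊥ := fun hb => hHb (le_bot_iff.mp (hb ▸ le_inf hHP le_normalizer))
    refine hasNormalPComplement_of_map_le _ (normalizer (H : Set G)).subtype_injective ?_
      (hyp (centerThompsonOf p S) (fun z hz => (Thompson.thompsonSubgroupOf_le S hz.1).1)
        (centerThompsonOf_ne_bot hSp hSb) (normalizer_le_normalizer_centerThompsonOf S))
    refine (le_normalizer_map _).trans ?_
    rw [centerThompsonOf_map _ _ (fun _ _ _ _ h => (normalizer (H : Set G)).subtype_injective h),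
      map_subgroupOf_eq_of_le hSM]
  · intro G _ _ P V _ hVb hVP hyp _
    set f := QuotientGroup.mk' V with hf
    have hfs := QuotientGroup.mk'_surjective V
    set Pb : Subgroup (G ⧸ V) := (P : Subgroup G).map f with hPb
    have hPc : Pb.comap f = (P : Subgroup G) := by
      rw [hPb, comap_map_eq, QuotientGroup.ker_mk', sup_eq_left.mpr hVP.le]
    have hPbb : Pb ≠ ⊥ := by
      rw [hPb, Ne, Subgroup.map_eq_bot_iff, QuotientGroup.ker_mk']
      exact hVP.not_ge
    set X := centerThompsonOf p Pb with hX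
    have hXb : X ≠ ⊥ := centerThompsonOf_ne_bot (P.2.map f) hPbb
    have hXP : X ≤ Pb := fun z hz => Thompson.thompsonSubgroupOf_le Pb hz.1
    refine hasNormalPComplement_of_le_map f (B := normalizer (X.comap f : Set G)) ?_
      (hyp (X.comap f) ?_ (hPc ▸ comap_mono hXP) ?_)
    · rw [← map_comap_eq_self_of_surjective hfs (normalizer (X : Set (G ⧸ V)))]
      exact map_mono (le_normalizer_comap f)
    · refine lt_of_le_of_ne (fun v hv => ?_) fun he => hXb ?_
      · rw [mem_comap, hf, QuotientGroup.mk'_apply, (QuotientGroup.eq_one_iff v).mpr hv]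
        exact one_mem _
      · rw [← map_comap_eq_self_of_surjective hfs X, ← he,
          (Subgroup.map_eq_bot_iff _).mpr (by rw [QuotientGroup.ker_mk'])]
    · rw [← hPc]
      exact (comap_mono (le_normalizer.trans (normalizer_le_normalizer_centerThompsonOf Pb))).trans
        (le_normalizer_comap f)
  · intro G _ _ P N _ hN hT
    set f := QuotientGroup.mk' N with hf
    have hinj : Set.InjOn f ((P : Subgroup G) : Set G) := by
      intro x hx y hy hxy
      have h0 : x⁻¹ * y ∈ (P : Subgroup G) ⊓ N :=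
        ⟨(P : Subgroup G).mul_mem ((P : Subgroup G).inv_mem hx) hy, QuotientGroup.eq.mp hxy⟩
      rw [Thompson.inf_eq_bot_of_isPGroup_of_coprime P.2 hN, mem_bot, inv_mul_eq_one] at h0
      exact h0
    refine hasNormalPComplement_of_le_map f ?_ hT
    intro x hx
    obtain ⟨g, rfl⟩ := QuotientGroup.mk'_surjective N x
    set X : Subgroup G := centerThompsonOf p (P : Subgroup G) with hX
    have hXP : X ≤ (P : Subgroup G) := fun z hz => Thompson.thompsonSubgroupOf_le _ hz.1
    rw [← centerThompsonOf_map f _ hinj, ← hX] at hx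
    obtain ⟨k, hk, hkg⟩ := exists_mul_mem_normalizer_of_map P hN hXP hx
    exact ⟨k * g, hkg, by
      rw [map_mul, hf, QuotientGroup.mk'_apply N k, (QuotientGroup.eq_one_iff k).mpr hk, one_mul]⟩
  · intro G _ _ P V K hT h
    have hn := h.centerThompsonOf_normal hp2
    exact h.not_complement ((Transfer.hasNormalPComplement_congr
      ((MulEquiv.subgroupCongr (normalizer_eq_top_iff.mpr hn)).trans topEquiv)).mp hT)

end Cfsg.Agent.PComplement
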