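import Cfsg.Agent.Lib.PComplement.Offender

/-!
# Quadratic elements and abelian `p'`-groups (`p` odd)

A quadratically acting element centralizes every abelian `p'`-group of operators it normalizes.
-/

set_option autoImplicit false

open Subgroup

namespace Cfsg.Agent.PComplement

variable {R : Type*} [Ring R]

/-- In a ring where `p = 0`, a commuting set of `n`-th roots of unity (`p` prime to `n`) generates
a subring without nilpotents. -/
theorem eq_zero_of_sq_eq_zero_of_mem_closure {p : ℕ} (hp : p.Prime) (hp2 : p ≠ 2)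
    (hchar : (p : R) = 0) {s : Set R} (hs : ∀ x ∈ s, ∀ y ∈ s, Commute x y) {n : ℕ}
    (hn : p.Coprime n) (hsn : ∀ x ∈ s, x ^ n = 1) {x : R} (hx : x ∈ Subring.closure s)
    (hxx : x * x = 0) : x = 0 := by
  have hcomm : ∀ a ∈ Subring.closure s, ∀ b ∈ Subring.closure s, Commute a b := by
    intro a ha b hb
    letI : CommRing (Subring.closure s) :=
      Subring.closureCommRingOfComm fun u hu v hv => (hs u hu v hv).eq
    exact congrArg Subtype.val (mul_comm (⟨a, ha⟩ : Subring.closure s) ⟨b, hb⟩)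
  rcases Nat.eq_zero_or_pos n with rfl | hn0
  · rw [Nat.coprime_zero_right] at hn; exact absurd hn hp.ne_one
  set k := n.totient with hk
  have hk0 : 0 < k := Nat.totient_pos.mpr hn0
  have hmod : p ^ k ≡ 1 [MOD n] := Nat.ModEq.pow_totient hn
  have hfix : ∀ a ∈ Subring.closure s, a ^ p ^ k = a := by
    intro a ha
    induction ha using Subring.closure_induction with
    | mem a ha =>
      obtain ⟨c, hc⟩ := (Nat.modEq_iff_dvd' (Nat.one_le_pow _ _ hp.pos)).mp hmod.symm
      have hc' : p ^ k = 1 + n * c := by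
        have := Nat.one_le_pow k p hp.pos
        omega
      rw [hc', pow_add, pow_one, pow_mul, hsn a ha, one_pow, mul_one]
    | zero => exact zero_pow (pow_pos hp.pos k).ne'
    | one => exact one_pow _
    | add a b ha hb ha' hb' =>
      obtain ⟨r, hr⟩ := (hcomm a ha b hb).exists_add_pow_prime_pow_eq hp k
      rw [hr, ha', hb', hchar]
      simp
    | neg a _ ha' =>
      rw [((hp.odd_of_ne_two hp2).pow).neg_pow, ha']
    | mul a b ha hb ha' hb' => rw [(hcomm a ha b hb).mul_pow, ha', hb']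
  rw [← hfix x hx]
  refine pow_eq_zero_of_le ?_ (pow_two x ▸ hxx)
  exact hp.two_le.trans (Nat.le_self_pow hk0.ne' p)

variable {H : Type*} [Group H]

/-- `p`-stability for abelian `p'`-groups. -/
theorem commute_of_quadratic {p : ℕ} [hp : Fact p.Prime] (hp2 : p ≠ 2) (hchar : (p : R) = 0)
    (ρ : H →* R) {a : H} (had : (ρ a - 1) * (ρ a - 1) = 0) {K : Subgroup H}
    (hK : ∀ x ∈ K, ∀ y ∈ K, Commute (ρ x) (ρ y)) (haK : ∀ k ∈ K, a * k * a⁻¹ ∈ K) {n : ℕ}
    (hn : p.Coprime n) (hKn : ∀ k ∈ K, ρ k ^ n = 1) {y : H} (hy : y ∈ K) :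
    Commute (ρ a) (ρ y) := by
  set d := ρ a - 1 with hd
  have ha1 : (1 : R) + d = ρ a := by rw [hd]; abel
  have hinv : ρ a⁻¹ = 1 - d := by
    calc ρ a⁻¹ = ρ a⁻¹ * 1 := (mul_one _).symm
      _ = ρ a⁻¹ * ((1 + d) * (1 - d)) := by
        congr 1
        simp only [mul_sub, add_mul, mul_one, one_mul, had]
        abel
      _ = 1 - d := by rw [← mul_assoc, ha1, ← map_mul, inv_mul_cancel, map_one, one_mul]
  set s : Set R := ρ '' (K : Set H) with hs
  have hsc : ∀ u ∈ s, ∀ v ∈ s, Commute u v := by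
    rintro _ ⟨u, hu, rfl⟩ _ ⟨v, hv, rfl⟩; exact hK u hu v hv
  have hsn : ∀ u ∈ s, u ^ n = 1 := by rintro _ ⟨u, hu, rfl⟩; exact hKn u hu
  have hσ : ∀ r ∈ Subring.closure s, ρ a * r * ρ a⁻¹ ∈ Subring.closure s := by
    intro r hr
    have h1 : ρ a⁻¹ * ρ a = 1 := by rw [← map_mul, inv_mul_cancel, map_one]
    induction hr using Subring.closure_induction with
    | mem r hr =>
      obtain ⟨u, hu, rfl⟩ := hr
      rw [← map_mul, ← map_mul]
      exact Subring.subset_closure ⟨_, haK u hu, rfl⟩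
    | zero => simp
    | one => rw [mul_one, ← map_mul, mul_inv_cancel, map_one]; exact one_mem _
    | add r r' _ _ h h' => rw [mul_add, add_mul]; exact add_mem h h'
    | neg r _ h => rw [mul_neg, neg_mul]; exact neg_mem h
    | mul r r' _ _ h h' =>
      have : ρ a * (r * r') * ρ a⁻¹ = (ρ a * r * ρ a⁻¹) * (ρ a * r' * ρ a⁻¹) := by
        calc ρ a * (r * r') * ρ a⁻¹ = ρ a * r * 1 * r' * ρ a⁻¹ := by simp only [mul_one, mul_assoc]
          _ = _ := by rw [← h1]; simp only [mul_assoc]
      rw [this]; exact mul_mem h h'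
  have hred : ∀ x ∈ Subring.closure s, x * x = 0 → x = 0 := fun x hx hxx =>
    eq_zero_of_sq_eq_zero_of_mem_closure hp.out hp2 hchar hsc hn hsn hx hxx
  have hdd : ∀ x : R, d * (d * x) = 0 := fun x => by rw [← mul_assoc, had, zero_mul]
  have hdrd : ∀ r ∈ Subring.closure s, d * r * d = 0 := by
    intro r hr
    have h1 := hσ _ hr
    have h2 := hσ _ h1
    rw [hinv, ← ha1] at h1 h2
    have key : (1 + d) * ((1 + d) * r * (1 - d)) * (1 - d) - 2 • ((1 + d) * r * (1 - d)) + r =
        -((2 : ℕ) • (d * r * d)) := by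
      simp only [mul_add, add_mul, mul_sub, sub_mul, mul_one, one_mul, mul_assoc, had, hdd,
        mul_zero, two_nsmul]
      abel
    have hmem : -((2 : ℕ) • (d * r * d)) ∈ Subring.closure s :=
      key ▸ add_mem (sub_mem h2 (nsmul_mem h1 2)) hr
    have h3 := hred _ hmem (by
      simp only [two_nsmul, neg_mul_neg, mul_add, add_mul, mul_assoc, hdd, mul_zero, add_zero])
    rw [neg_eq_zero] at h3
    obtain ⟨c, hc⟩ := (hp.out.odd_of_ne_two hp2)
    have h4 : (p : ℕ) • (d * r * d) = 0 := by rw [nsmul_eq_mul, hchar, zero_mul]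
    rwa [hc, add_nsmul, mul_comm, mul_nsmul', h3, nsmul_zero, one_nsmul, zero_add] at h4
  have hy' : ρ y ∈ Subring.closure s := Subring.subset_closure ⟨y, hy, rfl⟩
  have hD : d * ρ y - ρ y * d ∈ Subring.closure s := by
    have h1 := hσ _ hy'
    rw [hinv, ← ha1] at h1
    have key : (1 + d) * ρ y * (1 - d) - ρ y = d * ρ y - ρ y * d := by
      have h2 := hdrd _ hy'
      rw [mul_assoc] at h2
      simp only [add_mul, mul_sub, mul_one, one_mul, mul_assoc, h2]
      abel
    exact key ▸ sub_mem h1 hy'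
  have hD2 : (d * ρ y - ρ y * d) * (d * ρ y - ρ y * d) = 0 := by
    have h1 : d * (ρ y * d) = 0 := by rw [← mul_assoc]; exact hdrd _ hy'
    have h1' : ∀ x : R, d * (ρ y * (d * x)) = 0 := fun x => by
      rw [← mul_assoc (ρ y), ← mul_assoc, h1, zero_mul]
    have h2 : d * (ρ y * (ρ y * d)) = 0 := by
      rw [← mul_assoc (ρ y), ← mul_assoc]; exact hdrd _ (mul_mem hy' hy')
    simp only [mul_sub, sub_mul, mul_assoc, h1, h1', h2, hdd, mul_zero, sub_zero]
  have h0 := hred _ hD hD2
  rw [sub_eq_zero] at h0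
  show ρ a * ρ y = ρ y * ρ a
  rw [← ha1, add_mul, mul_add, one_mul, mul_one, h0]

end Cfsg.Agent.PComplement
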